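import Cfsg.Agent.Lib.CosetEnum.Cert
import Mathlib

set_option autoImplicit false
set_option linter.all false

/-! Matrices over the field with five elements, with rows packed into slots of 16 bits, and groups of such matrices. -/

namespace CfsgLib.LyG2

open CfsgLib.CosetEnum (strict strict_eq)

/-- The slot `j` of a packed vector. -/
def slot (j P : ℕ) : ℕ := P / 65536 ^ j % 65536

/-- Reduce every slot modulo five. -/
def red (k : ℕ) : ℕ → ℕ :=
  Nat.rec (motive := fun _ => ℕ → ℕ) (fun _ => 0)
    (fun _ ih P => strict (P % 65536 % 5) fun a => strict (ih (P / 65536)) fun r => a + 65536 * r) k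

/-- The combination of packed rows with the slots of `v` as coefficients. -/
def lin (rows : List ℕ) : ℕ → ℕ :=
  List.rec (motive := fun _ => ℕ → ℕ) (fun _ => 0)
    (fun r _ ih v => Bool.rec
      (Nat.add (Nat.mul (Nat.land v (nat_lit 65535)) r) (ih (Nat.shiftRight v (nat_lit 16))))
      (ih (Nat.shiftRight v (nat_lit 16)))
      (Nat.beq (Nat.land v (nat_lit 65535)) (nat_lit 0))) rows

/-- The number with `m` in each of the first `k` slots. -/
def lanes (m k : ℕ) : ℕ := Nat.rec (motive := fun _ => ℕ) 0 (fun _ ih => m + 65536 * ih) k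

/-- Reduce all slots at once, using that `64 ≡ 4` and that `x * 205 / 1024` is `x / 5` for small `x`. -/
def fastRed (k P : ℕ) : ℕ :=
  strict ((P &&& lanes 63 k) + 4 * ((P >>> 6) &&& lanes 1023 k)) fun x =>
    strict (((x * 205) >>> 10) &&& lanes 63 k) fun q => x - 5 * q

/-- A packed vector times a packed matrix. -/
def stepv (n : ℕ) (rows : List ℕ) (v : ℕ) : ℕ := strict (lin rows v) (fastRed n)

theorem red_succ (k P : ℕ) : red (k + 1) P = P % 65536 % 5 + 65536 * red k (P / 65536) := by
  show strict _ (fun a => strict _ fun r => a + 65536 * r) = _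
  rw [strict_eq, strict_eq]
  rfl

theorem slot_succ (j P : ℕ) : slot (j + 1) P = slot j (P / 65536) := by
  unfold slot
  rw [pow_succ', ← Nat.div_div_eq_div_mul]

theorem red_slot : ∀ (k P j : ℕ), j < k → slot j (red k P) = slot j P % 5 := by
  intro k
  induction k with
  | zero => intros; omega
  | succ k ih =>
    intro P j hj
    rw [red_succ]
    rcases j with _ | j
    · unfold slot
      simp only [pow_zero, Nat.div_one]
      omega
    · rw [slot_succ, slot_succ, ← ih (P / 65536) j (by omega)]
      congr 1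
      omega

theorem red_lt : ∀ (k P j : ℕ), slot j (red k P) < 5 := by
  intro k
  induction k with
  | zero => intro P j; simp [slot, red]
  | succ k ih =>
    intro P j
    rcases j with _ | j
    · rw [red_slot (k + 1) P 0 (by omega)]; omega
    · have h1 : (red (k + 1) P) / 65536 = red k (P / 65536) := by rw [red_succ]; omega
      rw [slot_succ, h1]
      exact ih _ _

theorem red_bound : ∀ k P, red k P < 65536 ^ k := by
  intro k
  induction k with
  | zero => intro P; exact Nat.one_pos
  | succ k ih =>
    intro P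
    have := ih (P / 65536)
    rw [red_succ, pow_succ']
    omega

theorem lin_cons (r : ℕ) (t : List ℕ) (v : ℕ) : lin (r :: t) v = v % 65536 * r + lin t (v / 65536) := by
  show Bool.rec (motive := fun _ => ℕ) ((v &&& 65535) * r + lin t (v >>> 16)) (lin t (v >>> 16)) (Nat.beq (v &&& 65535) 0) = _
  rw [show v &&& 65535 = v % 65536 from Nat.and_two_pow_sub_one_eq_mod v 16,
    show v >>> 16 = v / 65536 from Nat.shiftRight_eq_div_pow v 16]
  rcases Bool.eq_false_or_eq_true (Nat.beq (v % 65536) 0) with h | h
  · rw [h, Nat.eq_of_beq_eq_true h]; simp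
  · rw [h]

theorem lin_eq : ∀ (rows : List ℕ) (v : ℕ), lin rows v = ∑ i : Fin rows.length, slot i v * rows[i] := by
  intro rows
  induction rows with
  | nil => intro v; rfl
  | cons r t ih =>
    intro v
    rw [lin_cons, ih]
    refine Eq.trans ?_ (Fin.sum_univ_succ (n := t.length) fun i => slot i v * (r :: t)[i.val]'i.isLt).symm
    congr 1
    · simp [slot]
    · refine Finset.sum_congr rfl fun i _ => ?_
      simp [slot_succ]

theorem sum_slots : ∀ (n P : ℕ), ∑ j ∈ Finset.range n, slot j P * 65536 ^ j = P % 65536 ^ n := by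
  intro n P
  induction n with
  | zero => simp [Nat.mod_one]
  | succ n ih => rw [Finset.sum_range_succ, ih, Nat.mod_pow_succ, slot, mul_comm]

theorem slot_sum : ∀ (n : ℕ) (c : ℕ → ℕ), (∀ j < n, c j < 65536) → ∀ k < n,
    slot k (∑ j ∈ Finset.range n, c j * 65536 ^ j) = c k := by
  intro n
  induction n with
  | zero => intros; omega
  | succ n ih =>
    intro c hc k hk
    have e : ∑ j ∈ Finset.range (n + 1), c j * 65536 ^ j =
        c 0 + 65536 * ∑ j ∈ Finset.range n, c (j + 1) * 65536 ^ j := by
      rw [Finset.sum_range_succ', Finset.mul_sum, add_comm, pow_zero, mul_one]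
      congr 1
      refine Finset.sum_congr rfl fun j _ => ?_
      ring
    rw [e]
    have h0 := hc 0 (by omega)
    rcases k with _ | k
    · unfold slot
      simp only [pow_zero, Nat.div_one]
      omega
    · rw [slot_succ, ← ih (fun j => c (j + 1)) (fun j hj => hc _ (by omega)) k (by omega)]
      congr 1
      omega


theorem lanes_succ (m k : ℕ) : lanes m (k + 1) = m + 65536 * lanes m k := rfl

theorem lanes_bound {m : ℕ} (hm : m < 65536) : ∀ k, lanes m k < 65536 ^ k := by
  intro k
  induction k with
  | zero => exact Nat.one_pos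
  | succ k ih => rw [lanes_succ, pow_succ']; omega

theorem slot_lanes {m : ℕ} (hm : m < 65536) : ∀ (k j : ℕ), j < k → slot j (lanes m k) = m := by
  intro k
  induction k with
  | zero => intros; omega
  | succ k ih =>
    intro j hj
    rw [lanes_succ]
    rcases j with _ | j
    · unfold slot
      simp only [pow_zero, Nat.div_one]
      omega
    · rw [slot_succ, show (m + 65536 * lanes m k) / 65536 = lanes m k by omega, ih j (by omega)]

theorem slot_eq_shift (j P : ℕ) : slot j P = (P >>> (16 * j)) % 2 ^ 16 := by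
  rw [slot, Nat.shiftRight_eq_div_pow, pow_mul]; rfl

theorem slot_land (j A B : ℕ) : slot j (A &&& B) = slot j A &&& slot j B := by
  simp only [slot_eq_shift, Nat.shiftRight_and_distrib]
  apply Nat.eq_of_testBit_eq
  intro i
  simp only [Nat.testBit_and, Nat.testBit_mod_two_pow]
  cases decide (i < 16) <;> simp

theorem slot_shift (j A s : ℕ) (hs : s < 16) (m : ℕ) (hm : m + s ≤ 16) :
    slot j (A >>> s) &&& (2 ^ m - 1) = (slot j A / 2 ^ s) % 2 ^ m := by
  simp only [slot_eq_shift, ← Nat.shiftRight_eq_div_pow, Nat.and_two_pow_sub_one_eq_mod]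
  apply Nat.eq_of_testBit_eq
  intro i
  simp only [Nat.testBit_mod_two_pow, Nat.testBit_shiftRight]
  by_cases hi : i < m
  · simp [hi, show s + i < 16 by omega, show i < 16 by omega, Nat.add_comm, Nat.add_left_comm, Nat.add_assoc]
  · simp [hi]

theorem sum_of_lt {k P : ℕ} (h : P < 65536 ^ k) : ∑ j ∈ Finset.range k, slot j P * 65536 ^ j = P := by
  rw [sum_slots, Nat.mod_eq_of_lt h]

theorem fastRed_eq (k P : ℕ) (hP : ∀ j < k, slot j P < 2048) : fastRed k P = red k P := by
  set A := P &&& lanes 63 k with hA
  set B := (P >>> 6) &&& lanes 1023 k with hB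
  have ha : ∀ j < k, slot j A = slot j P % 64 := fun j hj => by
    rw [hA, slot_land, slot_lanes (by omega) k j hj]
    exact Nat.and_two_pow_sub_one_eq_mod _ 6
  have hb : ∀ j < k, slot j B = slot j P / 64 := fun j hj => by
    rw [hB, slot_land, slot_lanes (by omega) k j hj, show (1023 : ℕ) = 2 ^ 10 - 1 from rfl,
      slot_shift j P 6 (by omega) 10 (by omega)]
    have := hP j hj
    omega
  have eA := sum_of_lt (k := k) (P := A) (lt_of_le_of_lt Nat.and_le_right (lanes_bound (by omega) k))
  have eB := sum_of_lt (k := k) (P := B) (lt_of_le_of_lt Nat.and_le_right (lanes_bound (by omega) k))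
  set c := fun j => slot j P % 64 + 4 * (slot j P / 64) with hc
  have hc' : ∀ j < k, c j < 200 := fun j hj => by have := hP j hj; simp only [hc]; omega
  have hx : A + 4 * B = ∑ j ∈ Finset.range k, c j * 65536 ^ j := by
    conv_lhs => rw [← eA, ← eB, Finset.mul_sum, ← Finset.sum_add_distrib]
    refine Finset.sum_congr rfl fun j hj => ?_
    rw [ha j (Finset.mem_range.mp hj), hb j (Finset.mem_range.mp hj)]
    ring
  set x := A + 4 * B with hxd
  have hq : ∀ j < k, slot j (((x * 205) >>> 10) &&& lanes 63 k) = c j / 5 := fun j hj => by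
    rw [slot_land, slot_lanes (by omega) k j hj, show (63 : ℕ) = 2 ^ 6 - 1 from rfl,
      slot_shift j (x * 205) 10 (by omega) 6 (by omega), hx, Finset.sum_mul]
    have e : (∑ i ∈ Finset.range k, c i * 65536 ^ i * 205) = ∑ i ∈ Finset.range k, (c i * 205) * 65536 ^ i :=
      Finset.sum_congr rfl fun i _ => by ring
    rw [e, slot_sum k _ (fun i hi => by have := hc' i hi; omega) j hj]
    have hcj := hc' j hj
    generalize c j = w at hcj ⊢
    interval_cases w <;> rfl
  have eq' := sum_of_lt (k := k) (P := ((x * 205) >>> 10) &&& lanes 63 k)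
    (lt_of_le_of_lt Nat.and_le_right (lanes_bound (by omega) k))
  set q := ((x * 205) >>> 10) &&& lanes 63 k with hqd
  have hr := sum_of_lt (k := k) (P := red k P) (red_bound k P)
  have key : x = red k P + 5 * q := by
    rw [hx, ← hr, ← eq', Finset.mul_sum, ← Finset.sum_add_distrib]
    refine Finset.sum_congr rfl fun j hj => ?_
    have hj' := Finset.mem_range.mp hj
    rw [red_slot k P j hj', hq j hj', show slot j P % 5 * 65536 ^ j + 5 * (c j / 5 * 65536 ^ j) =
      (slot j P % 5 + 5 * (c j / 5)) * 65536 ^ j by ring]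
    congr 1
    simp only [hc]
    omega
  have e : fastRed k P = x - 5 * q := by
    unfold fastRed
    rw [strict_eq, strict_eq]
  rw [e, key]
  omega

variable {n : ℕ}

/-- The vector with the given slots. -/
def vec (n v : ℕ) : Fin n → ZMod 5 := fun j => (slot j v : ZMod 5)

/-- The matrix with the given rows. -/
def mat (n : ℕ) (rows : List ℕ) : Matrix (Fin n) (Fin n) (ZMod 5) := fun i => vec n (rows.getD i 0)

/-- A packed matrix with reduced slots. -/
structure Good (n : ℕ) (rows : List ℕ) : Prop where
  len : rows.length = n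
  lt : ∀ i : ℕ, rows.getD i 0 < 65536 ^ n
  small : ∀ i j : ℕ, slot j (rows.getD i 0) < 5

/-- Check of a packed matrix. -/
def matOK (n : ℕ) (rows : List ℕ) : Bool :=
  Nat.beq rows.length n && rows.all fun r => Nat.beq (red n r) r

theorem good_of_check {rows : List ℕ} (h : matOK n rows = true) : Good n rows := by
  simp only [matOK, Bool.and_eq_true] at h
  have key : ∀ i, red n (rows.getD i 0) = rows.getD i 0 := by
    intro i
    rcases Nat.lt_or_ge i rows.length with hi | hi
    · rw [List.getD_eq_getElem _ _ hi]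
      exact Nat.eq_of_beq_eq_true (List.all_eq_true.mp h.2 _ (List.getElem_mem hi))
    · rw [List.getD_eq_default _ _ hi]
      have h0 : ∀ k, red k 0 = 0 := fun k => by
        induction k with
        | zero => rfl
        | succ k ih => simp [red_succ, ih]
      exact h0 n
  refine ⟨Nat.eq_of_beq_eq_true h.1, fun i => ?_, fun i j => key i ▸ red_lt _ _ _⟩
  rw [← key i]
  exact red_bound _ _

theorem stepv_spec (hn : n ≤ 127) {rows : List ℕ} (h : Good n rows) {v : ℕ} (hv : ∀ j, slot j v < 5) :
    vec n (stepv n rows v) = Matrix.vecMul (vec n v) (mat n rows) ∧ ∀ j, slot j (stepv n rows v) < 5 := by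
  have e : lin rows v = ∑ j ∈ Finset.range n, (∑ i : Fin n, slot i v * slot j (rows.getD i 0)) * 65536 ^ j := by
    rw [lin_eq]
    simp only [Finset.sum_mul]
    rw [Finset.sum_comm]
    refine Fintype.sum_equiv (finCongr h.len) _ _ fun i => ?_
    simp only [finCongr_apply, Fin.val_cast, mul_assoc, ← Finset.mul_sum]
    rw [sum_slots, Nat.mod_eq_of_lt (h.lt _), List.getD_eq_getElem _ _ i.isLt]
    rfl
  have hb : ∀ j < n, (∑ i : Fin n, slot i v * slot j (rows.getD i 0)) < 65536 := fun j _ => by
    refine lt_of_le_of_lt (Finset.sum_le_sum (g := fun _ => 16) fun i _ => ?_) (by simp; omega)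
    exact Nat.mul_le_mul (Nat.le_of_lt_succ (hv _)) (Nat.le_of_lt_succ (h.small _ _))
  have hs : stepv n rows v = red n (lin rows v) := by
    unfold stepv
    rw [strict_eq, fastRed_eq]
    intro j hj
    rw [e, slot_sum n _ hb j hj]
    refine lt_of_le_of_lt (Finset.sum_le_sum (g := fun _ => 4 * 4) fun i _ => ?_) ?_
    · exact Nat.mul_le_mul (Nat.le_of_lt_succ (hv _)) (Nat.le_of_lt_succ (h.small _ _))
    · simp only [Finset.sum_const, Finset.card_univ, Fintype.card_fin, smul_eq_mul]
      omega
  refine ⟨?_, fun j => hs ▸ red_lt _ _ _⟩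
  funext k
  show (slot k (stepv n rows v) : ZMod 5) = _
  rw [hs, red_slot n _ k k.isLt, ZMod.natCast_mod, e, slot_sum n _ hb k k.isLt, Nat.cast_sum]
  simp only [Matrix.vecMul, dotProduct, mat, vec, Nat.cast_mul]

/-- Apply a word of letters to a vector sitting above 64 bits of salt.  The salt keeps the intermediate numbers
different in their lowest limb, by which the kernel hashes literals. -/
def appS (n : ℕ) (ms : List (List ℕ)) (l : List ℕ) : ℕ → ℕ :=
  List.rec (motive := fun _ => ℕ → ℕ) (fun s => Nat.shiftRight s (nat_lit 64))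
    (fun x _ ih s => strict (lin (ms.getD x []) (Nat.shiftRight s (nat_lit 64))) fun y =>
      strict (fastRed n y) fun z => strict (Nat.mod y (nat_lit 18446744073709551557)) fun t =>
        strict (Nat.add (Nat.mul z (nat_lit 18446744073709551616)) t) ih) l

/-- Apply a word of letters to a packed vector. -/
def appW (n : ℕ) (ms : List (List ℕ)) (l : List ℕ) (v : ℕ) : ℕ :=
  appS n ms l (Nat.mul v (nat_lit 18446744073709551616))

theorem shift_salt (v t : ℕ) (ht : t < 18446744073709551616) :
    Nat.shiftRight (v * 18446744073709551616 + t) 64 = v := by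
  show (v * 18446744073709551616 + t) >>> 64 = v
  rw [Nat.shiftRight_eq_div_pow]
  norm_num
  omega

theorem appS_cons (n : ℕ) (ms : List (List ℕ)) (x : ℕ) (r : List ℕ) (s : ℕ) :
    appS n ms (x :: r) s = appS n ms r (fastRed n (lin (ms.getD x []) (Nat.shiftRight s 64)) * 18446744073709551616 +
      lin (ms.getD x []) (Nat.shiftRight s 64) % 18446744073709551557) := by
  simp only [appS, strict_eq]
  rfl

theorem appS_salt (n : ℕ) (ms : List (List ℕ)) (l : List ℕ) (v t : ℕ) (ht : t < 18446744073709551616) :
    appS n ms l (v * 18446744073709551616 + t) = appW n ms l v := by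
  have h0 := shift_salt v 0 (by norm_num)
  rw [Nat.add_zero] at h0
  cases l with
  | nil =>
    show Nat.shiftRight (v * 18446744073709551616 + t) 64 = Nat.shiftRight (v * 18446744073709551616) 64
    rw [shift_salt v t ht, h0]
  | cons x r =>
    show _ = appS n ms (x :: r) (v * 18446744073709551616)
    rw [appS_cons, appS_cons, shift_salt v t ht, h0]

theorem appW_nil (n : ℕ) (ms : List (List ℕ)) (v : ℕ) : appW n ms [] v = v := by
  have h0 := shift_salt v 0 (by norm_num)
  rwa [Nat.add_zero] at h0

theorem appW_cons (n : ℕ) (ms : List (List ℕ)) (x : ℕ) (r : List ℕ) (v : ℕ) :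
    appW n ms (x :: r) v = appW n ms r (stepv n (ms.getD x []) v) := by
  have h0 := shift_salt v 0 (by norm_num)
  rw [Nat.add_zero] at h0
  show appS n ms (x :: r) (v * 18446744073709551616) = _
  rw [appS_cons, h0, appS_salt n ms r _ _ (lt_trans (Nat.mod_lt _ (by norm_num)) (by norm_num)), stepv, strict_eq]

/-- The matrix of a letter. -/
def Mx (n : ℕ) (ms : List (List ℕ)) (x : ℕ) : Matrix (Fin n) (Fin n) (ZMod 5) := mat n (ms.getD x [])

/-- Checked data. -/
structure MatData (n : ℕ) (ms : List (List ℕ)) : Prop where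
  small : n ≤ 127
  good : ∀ m ∈ ms, Good n m

theorem MatData.of_check {ms : List (List ℕ)} (hn : n ≤ 127) (h : ms.all (matOK n) = true) : MatData n ms :=
  ⟨hn, fun m hm => good_of_check (List.all_eq_true.mp h m hm)⟩

theorem vec_appW {ms : List (List ℕ)} (hd : MatData n ms) : ∀ (l : List ℕ), (∀ x ∈ l, x < ms.length) → ∀ v : ℕ,
    (∀ j, slot j v < 5) → vec n (appW n ms l v) = Matrix.vecMul (vec n v) (l.map (Mx n ms)).prod := by
  intro l
  induction l with
  | nil => intro _ v _; simp [appW_nil]
  | cons x t ih =>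
    intro h v hv
    have hx := h x (List.mem_cons_self ..)
    rw [appW_cons]
    have hst := stepv_spec hd.small (hd.good _ (show ms.getD x [] ∈ ms by
      rw [List.getD_eq_getElem _ _ hx]; exact List.getElem_mem hx)) hv
    rw [ih (fun y hy => h y (List.mem_cons_of_mem _ hy)) _ hst.2, hst.1,
      List.map_cons, List.prod_cons, Matrix.vecMul_vecMul]
    rfl

theorem slot_unit (i : Fin n) (j : ℕ) : slot j (65536 ^ (i : ℕ)) = if j = i then 1 else 0 := by
  unfold slot
  split
  next h =>
    subst h
    rw [Nat.div_self (Nat.pow_pos (by norm_num))]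
  next h =>
    rcases Nat.lt_or_ge j i with hlt | hge
    · obtain ⟨d, hd⟩ : ∃ d, (i : ℕ) = j + (d + 1) := ⟨i - j - 1, by omega⟩
      rw [hd, pow_add, pow_succ, Nat.mul_div_cancel_left _ (Nat.pow_pos (by norm_num))]
      omega
    · rw [Nat.div_eq_of_lt (Nat.pow_lt_pow_right (by norm_num) (by omega)), Nat.zero_mod]

/-- The product of a word has the given rows. -/
theorem prod_eq_of_rows {ms : List (List ℕ)} (hd : MatData n ms) (l : List ℕ) (hl : ∀ x ∈ l, x < ms.length)
    (rows : ℕ → ℕ) (h : ∀ i < n, appW n ms l (65536 ^ i) = rows i) :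
    (l.map (Mx n ms)).prod = fun i : Fin n => vec n (rows i) := by
  funext i
  have hs : ∀ k, slot k (65536 ^ (i : ℕ)) < 5 := fun k => by rw [slot_unit i k]; split <;> omega
  have e : vec n (65536 ^ (i : ℕ)) = Pi.single i 1 := by
    funext k
    simp only [vec, slot_unit i, Pi.single_apply, Fin.val_inj]
    split <;> simp
  have hh := vec_appW hd l hl _ hs
  rw [h i i.isLt, e, Matrix.single_one_vecMul] at hh
  exact hh.symm

/-- One basis vector is fixed by all the words. -/
def fixOne (n : ℕ) (ms : List (List ℕ)) (ws : List (List ℕ)) (i : ℕ) : Bool :=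
  strict (65536 ^ i) fun e => ws.all fun l => Nat.beq (appW n ms l e) e

/-- All the words are trivial, checked on a range of basis vectors. -/
def relsOK (n : ℕ) (ms : List (List ℕ)) (ws : List (List ℕ)) (lo c : ℕ) : Bool :=
  (List.range c).all fun i => fixOne n ms ws (lo + i)

theorem relsOK_spec {ms ws : List (List ℕ)} {lo c : ℕ} (h : relsOK n ms ws lo c = true) {i : ℕ} (h1 : lo ≤ i)
    (h2 : i < lo + c) {l : List ℕ} (hl : l ∈ ws) : appW n ms l (65536 ^ i) = 65536 ^ i := by
  obtain ⟨k, rfl⟩ := Nat.le.dest h1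
  have h := List.all_eq_true.mp h k (List.mem_range.mpr (by omega))
  rw [fixOne, strict_eq] at h
  exact Nat.eq_of_beq_eq_true (List.all_eq_true.mp h l hl)

theorem prod_eq_one {ms : List (List ℕ)} (hd : MatData n ms) (l : List ℕ) (hl : ∀ x ∈ l, x < ms.length)
    (h : ∀ i < n, appW n ms l (65536 ^ i) = 65536 ^ i) : (l.map (Mx n ms)).prod = 1 := by
  rw [prod_eq_of_rows hd l hl (fun i => 65536 ^ i) h]
  funext i j
  simp only [vec, slot_unit i, Matrix.one_apply, Fin.val_inj]
  by_cases hij : i = j
  · subst hij; simp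
  · simp [hij, Ne.symm hij]

/-- Letters of a reduced word: inverses are shifted by `k`. -/
def codes {k : ℕ} (L : List (Fin k × Bool)) : List ℕ := L.map fun p => bif p.2 then p.1.val else p.1.val + k

/-- Checked matrices for `k` generators and their inverses. -/
structure GenData (n k : ℕ) (ms : List (List ℕ)) : Prop where
  data : MatData n ms
  len : ms.length = 2 * k
  pairs : ∀ j < k, Mx n ms j * Mx n ms (j + k) = 1

/-- Check of the inverses. -/
def invOK (n k : ℕ) (ms : List (List ℕ)) : Bool :=
  relsOK n ms ((List.range k).map fun j => [j, j + k]) 0 n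

theorem GenData.of_check {k : ℕ} {ms : List (List ℕ)} (hn : n ≤ 127) (h : ms.all (matOK n) = true)
    (hlen : ms.length = 2 * k) (hinv : invOK n k ms = true) : GenData n k ms := by
  refine ⟨MatData.of_check hn h, hlen, fun j hj => ?_⟩
  have := prod_eq_one (MatData.of_check hn h) [j, j + k] (by simp [hlen]; omega) fun i hi =>
    relsOK_spec hinv (Nat.zero_le _) (by omega) (List.mem_map.mpr ⟨j, List.mem_range.mpr hj, rfl⟩)
  simpa using this

variable {k : ℕ} {ms : List (List ℕ)} (hg : GenData n k ms)

/-- The unit of a generator. -/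
def GenData.U (j : Fin k) : (Matrix (Fin n) (Fin n) (ZMod 5))ˣ :=
  ⟨Mx n ms j, Mx n ms (j + k), hg.pairs j j.isLt, mul_eq_one_comm.mp (hg.pairs j j.isLt)⟩

/-- The substitution of the matrices. -/
def GenData.F : FreeGroup (Fin k) →* (Matrix (Fin n) (Fin n) (ZMod 5))ˣ := FreeGroup.lift hg.U

theorem GenData.F_val (r : FreeGroup (Fin k)) :
    ((hg.F r : (Matrix (Fin n) (Fin n) (ZMod 5))ˣ) : Matrix (Fin n) (Fin n) (ZMod 5)) =
      ((codes r.toWord).map (Mx n ms)).prod := by
  conv_lhs => rw [← FreeGroup.mk_toWord (x := r)]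
  rw [GenData.F, FreeGroup.lift_mk, ← Units.coeHom_apply, map_list_prod, codes, List.map_map, List.map_map]
  refine congrArg List.prod (List.map_congr_left fun p _ => ?_)
  rcases p with ⟨j, b⟩
  cases b <;> rfl

theorem GenData.codes_lt (hg : GenData n k ms) (L : List (Fin k × Bool)) : ∀ x ∈ codes L, x < ms.length := by
  intro x hx
  obtain ⟨⟨j, b⟩, -, rfl⟩ := List.mem_map.mp hx
  have := j.isLt
  rw [hg.len]
  cases b <;> simp <;> omega

theorem GenData.F_eq_one (r : FreeGroup (Fin k))
    (h : ∀ i < n, appW n ms (codes r.toWord) (65536 ^ i) = 65536 ^ i) : hg.F r = 1 :=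
  Units.ext (by rw [hg.F_val, prod_eq_one hg.data _ (hg.codes_lt _) h]; rfl)

theorem GenData.F_rows (r : FreeGroup (Fin k)) (rows : List ℕ)
    (h : ∀ i < n, appW n ms (codes r.toWord) (65536 ^ i) = rows.getD i 0) :
    ((hg.F r : (Matrix (Fin n) (Fin n) (ZMod 5))ˣ) : Matrix (Fin n) (Fin n) (ZMod 5)) = mat n rows := by
  rw [hg.F_val, prod_eq_of_rows hg.data _ (hg.codes_lt _) (fun i => rows.getD i 0) h]
  rfl

end CfsgLib.LyG2
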