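import Cfsg.Agent.Lib.LyG2.Pres

set_option autoImplicit false
set_option linter.all false

namespace CfsgLib.LyG2

namespace L3

open CfsgLib.CosetEnum

/-- Relator words in local letters. -/
def lsl : List (List ℕ) := [[0, 0, 0, 0, 0, 0, 0, 0],
  [0, 1],
  [1, 0]]

/-- Subgroup letters. -/
def lsub : List (List ℕ) := []

noncomputable def col0 : Tr :=
 (.leaf 0x600004000070000200005000000000300001)
noncomputable def col1 : Tr :=
 (.leaf 0x500007000030000600001000040000000002)
noncomputable def table : List Tr := [col0, col1]

noncomputable def facts : Tr :=
 (.leaf 0x600007000000700005010000600004000000500003010000400002000000300001010000200000000000100000)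
noncomputable def words : Tr :=
 (.leaf 0x100000000000001100000000000000101000000000000010100000000000001100000000000000101000000000000011000000000000001100000000000000101000000000000011000000000000001010000000111111111000000011111111100000001111111110000000111111111000000011111111100000001111111110000000111111111000000011111111100000001000000000000000100000000000000010000000000000001000000000000000100000000000000010000000000000001000000000000000100000000)
noncomputable def subs : Tr :=
 (.leaf 0x0)
noncomputable def lives : Tr :=
 (.leaf 0x700006000050000400003000020000100000)
noncomputable def entryFact : Tr :=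
 (.leaf 0xe00000f00001000000c00000a00000d00000b000008000006000009000007000004000002000005000003000001)
noncomputable def items0 : List ℕ := [
nat_lit 0x0,
nat_lit 0x0,
nat_lit 0x0,
nat_lit 0x0,
nat_lit 0x0,
nat_lit 0x0,
nat_lit 0x0,
nat_lit 0x1600000e00000600000400000c00001400001c00010]
theorem facts_ok0 : checkFacts facts 18364758544493064705 words 64 subs 8 items0 0 = true := by decide +kernel
theorem facts_ok : ∀ j < 8, ∃ item, checkFact facts 18364758544493064705 words 64 subs 8 j item = true := by
  intro j hj
  rcases Nat.lt_or_ge j 8 with h | h
  · exact checkFacts_spec _ _ _ _ _ _ items0 0 facts_ok0 j (by omega) (lt_of_lt_of_eq h (by decide +kernel))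
  omega
theorem rows_0 : checkRows facts 18364758544493064705 lives entryFact table 8 2 8 8 0 = true := by decide +kernel
theorem rows_ok : ∀ k < 8, checkRow facts 18364758544493064705 lives entryFact 8 2 8 k table 0 = true := by
  intro k hk
  rcases Nat.lt_or_ge k 8 with h | h
  · exact checkRows_spec _ _ _ _ _ _ _ _ _ _ rows_0 k (by omega) (by omega)
  omega
theorem words_fit : words.fits 64 128 = true := by decide +kernel
theorem words_eq : listEq (words.entries 64 128) (allCodes 18364758544493064705 2 lsl) = true := by decide +kernel
theorem subs_fit : subs.fits 64 128 = true := by decide +kernel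
theorem subs_eq : listEq (subs.entries 64 128) (subCodes 18364758544493064705 lsub) = true := by decide +kernel
theorem lives_zero : Nat.beq (lives.get 20 0) 0 = true := by decide +kernel

theorem covers : CoversCosets (Level gP [0, 4]) (Level gP []) 8 :=
  covers_level gP15 gPinv lsG lsG_words [0, 4] [] 18364758544493064705 (ip := 18364758543347775060) (by decide +kernel) lsl lsub (by decide +kernel) (by decide +kernel)
    facts L3.words subs lives entryFact L3.table 64 128 8 8 8 2 rfl rfl (by omega)
    words_fit words_eq subs_fit subs_eq facts_ok lives_zero rows_ok

end L3

end CfsgLib.LyG2
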