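import Cfsg.Agent.Lib.LyG2.L0
import Cfsg.Agent.Lib.LyG2.L1
import Cfsg.Agent.Lib.LyG2.L2
import Cfsg.Agent.Lib.LyG2.L3

/-!
The group on four letters has order at most that of `G₂(5)`.
-/

set_option autoImplicit false
set_option linter.all false

namespace CfsgLib.LyG2

open CfsgLib.CosetEnum

theorem bound : Finite P ∧ Nat.card P ≤ 5859000000 := by
  have b0 : Finite (Level gP []) ∧ Nat.card (Level gP []) ≤ 1 :=
    ⟨(card_level_nil gP).1, (card_level_nil gP).2.le⟩
  have b1 := card_le_step (m := 8) L3.covers b0 (by norm_num)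
  have b2 := card_le_step (m := 480) L2.covers b1 (by norm_num)
  have b3 := card_le_step (m := 1500000) L1.covers b2 (by norm_num)
  obtain ⟨h1, h2⟩ := card_le_step (m := 5859000000) L0.covers b3 (by norm_num)
  rw [level_top] at h1 h2
  exact ⟨Finite.of_equiv _ Subgroup.topEquiv.toEquiv, by rwa [Subgroup.card_top] at h2⟩

end CfsgLib.LyG2
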