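import Cfsg.Agent.Lib.LyG2.L0P0
import Cfsg.Agent.Lib.LyG2.L0P1
import Cfsg.Agent.Lib.LyG2.L0P2
import Cfsg.Agent.Lib.LyG2.L0P3

set_option autoImplicit false
set_option linter.all false

namespace CfsgLib.LyG2

namespace L0

open CfsgLib.CosetEnum

theorem facts_ok : ∀ j < 87660, ∃ item, checkFact facts 18364758543347775060 words 320 subs 27710 j item = true := by
  intro j hj
  rcases Nat.lt_or_ge j 512 with h | h
  · exact checkFacts_spec _ _ _ _ _ _ items0 0 facts_ok0 j (by omega) (lt_of_lt_of_eq h (by decide +kernel))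
  rcases Nat.lt_or_ge j 1024 with h | h
  · exact checkFacts_spec _ _ _ _ _ _ items512 512 facts_ok512 j (by omega) (lt_of_lt_of_eq h (by decide +kernel))
  rcases Nat.lt_or_ge j 1536 with h | h
  · exact checkFacts_spec _ _ _ _ _ _ items1024 1024 facts_ok1024 j (by omega) (lt_of_lt_of_eq h (by decide +kernel))
  rcases Nat.lt_or_ge j 2048 with h | h
  · exact checkFacts_spec _ _ _ _ _ _ items1536 1536 facts_ok1536 j (by omega) (lt_of_lt_of_eq h (by decide +kernel))
  rcases Nat.lt_or_ge j 2560 with h | h
  · exact checkFacts_spec _ _ _ _ _ _ items2048 2048 facts_ok2048 j (by omega) (lt_of_lt_of_eq h (by decide +kernel))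
  rcases Nat.lt_or_ge j 3072 with h | h
  · exact checkFacts_spec _ _ _ _ _ _ items2560 2560 facts_ok2560 j (by omega) (lt_of_lt_of_eq h (by decide +kernel))
  rcases Nat.lt_or_ge j 3584 with h | h
  · exact checkFacts_spec _ _ _ _ _ _ items3072 3072 facts_ok3072 j (by omega) (lt_of_lt_of_eq h (by decide +kernel))
  rcases Nat.lt_or_ge j 4096 with h | h
  · exact checkFacts_spec _ _ _ _ _ _ items3584 3584 facts_ok3584 j (by omega) (lt_of_lt_of_eq h (by decide +kernel))
  rcases Nat.lt_or_ge j 4608 with h | h
  · exact checkFacts_spec _ _ _ _ _ _ items4096 4096 facts_ok4096 j (by omega) (lt_of_lt_of_eq h (by decide +kernel))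
  rcases Nat.lt_or_ge j 5120 with h | h
  · exact checkFacts_spec _ _ _ _ _ _ items4608 4608 facts_ok4608 j (by omega) (lt_of_lt_of_eq h (by decide +kernel))
  rcases Nat.lt_or_ge j 5632 with h | h
  · exact checkFacts_spec _ _ _ _ _ _ items5120 5120 facts_ok5120 j (by omega) (lt_of_lt_of_eq h (by decide +kernel))
  rcases Nat.lt_or_ge j 6144 with h | h
  · exact checkFacts_spec _ _ _ _ _ _ items5632 5632 facts_ok5632 j (by omega) (lt_of_lt_of_eq h (by decide +kernel))
  rcases Nat.lt_or_ge j 6656 with h | h
  · exact checkFacts_spec _ _ _ _ _ _ items6144 6144 facts_ok6144 j (by omega) (lt_of_lt_of_eq h (by decide +kernel))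
  rcases Nat.lt_or_ge j 7168 with h | h
  · exact checkFacts_spec _ _ _ _ _ _ items6656 6656 facts_ok6656 j (by omega) (lt_of_lt_of_eq h (by decide +kernel))
  rcases Nat.lt_or_ge j 7680 with h | h
  · exact checkFacts_spec _ _ _ _ _ _ items7168 7168 facts_ok7168 j (by omega) (lt_of_lt_of_eq h (by decide +kernel))
  rcases Nat.lt_or_ge j 8192 with h | h
  · exact checkFacts_spec _ _ _ _ _ _ items7680 7680 facts_ok7680 j (by omega) (lt_of_lt_of_eq h (by decide +kernel))
  rcases Nat.lt_or_ge j 8704 with h | h
  · exact checkFacts_spec _ _ _ _ _ _ items8192 8192 facts_ok8192 j (by omega) (lt_of_lt_of_eq h (by decide +kernel))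
  rcases Nat.lt_or_ge j 9216 with h | h
  · exact checkFacts_spec _ _ _ _ _ _ items8704 8704 facts_ok8704 j (by omega) (lt_of_lt_of_eq h (by decide +kernel))
  rcases Nat.lt_or_ge j 9728 with h | h
  · exact checkFacts_spec _ _ _ _ _ _ items9216 9216 facts_ok9216 j (by omega) (lt_of_lt_of_eq h (by decide +kernel))
  rcases Nat.lt_or_ge j 10240 with h | h
  · exact checkFacts_spec _ _ _ _ _ _ items9728 9728 facts_ok9728 j (by omega) (lt_of_lt_of_eq h (by decide +kernel))
  rcases Nat.lt_or_ge j 10752 with h | h
  · exact checkFacts_spec _ _ _ _ _ _ items10240 10240 facts_ok10240 j (by omega) (lt_of_lt_of_eq h (by decide +kernel))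
  rcases Nat.lt_or_ge j 11264 with h | h
  · exact checkFacts_spec _ _ _ _ _ _ items10752 10752 facts_ok10752 j (by omega) (lt_of_lt_of_eq h (by decide +kernel))
  rcases Nat.lt_or_ge j 11776 with h | h
  · exact checkFacts_spec _ _ _ _ _ _ items11264 11264 facts_ok11264 j (by omega) (lt_of_lt_of_eq h (by decide +kernel))
  rcases Nat.lt_or_ge j 12288 with h | h
  · exact checkFacts_spec _ _ _ _ _ _ items11776 11776 facts_ok11776 j (by omega) (lt_of_lt_of_eq h (by decide +kernel))
  rcases Nat.lt_or_ge j 12800 with h | h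
  · exact checkFacts_spec _ _ _ _ _ _ items12288 12288 facts_ok12288 j (by omega) (lt_of_lt_of_eq h (by decide +kernel))
  rcases Nat.lt_or_ge j 13312 with h | h
  · exact checkFacts_spec _ _ _ _ _ _ items12800 12800 facts_ok12800 j (by omega) (lt_of_lt_of_eq h (by decide +kernel))
  rcases Nat.lt_or_ge j 13824 with h | h
  · exact checkFacts_spec _ _ _ _ _ _ items13312 13312 facts_ok13312 j (by omega) (lt_of_lt_of_eq h (by decide +kernel))
  rcases Nat.lt_or_ge j 14336 with h | h
  · exact checkFacts_spec _ _ _ _ _ _ items13824 13824 facts_ok13824 j (by omega) (lt_of_lt_of_eq h (by decide +kernel))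
  rcases Nat.lt_or_ge j 14848 with h | h
  · exact checkFacts_spec _ _ _ _ _ _ items14336 14336 facts_ok14336 j (by omega) (lt_of_lt_of_eq h (by decide +kernel))
  rcases Nat.lt_or_ge j 15360 with h | h
  · exact checkFacts_spec _ _ _ _ _ _ items14848 14848 facts_ok14848 j (by omega) (lt_of_lt_of_eq h (by decide +kernel))
  rcases Nat.lt_or_ge j 15872 with h | h
  · exact checkFacts_spec _ _ _ _ _ _ items15360 15360 facts_ok15360 j (by omega) (lt_of_lt_of_eq h (by decide +kernel))
  rcases Nat.lt_or_ge j 16384 with h | h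
  · exact checkFacts_spec _ _ _ _ _ _ items15872 15872 facts_ok15872 j (by omega) (lt_of_lt_of_eq h (by decide +kernel))
  rcases Nat.lt_or_ge j 16896 with h | h
  · exact checkFacts_spec _ _ _ _ _ _ items16384 16384 facts_ok16384 j (by omega) (lt_of_lt_of_eq h (by decide +kernel))
  rcases Nat.lt_or_ge j 17408 with h | h
  · exact checkFacts_spec _ _ _ _ _ _ items16896 16896 facts_ok16896 j (by omega) (lt_of_lt_of_eq h (by decide +kernel))
  rcases Nat.lt_or_ge j 17920 with h | h
  · exact checkFacts_spec _ _ _ _ _ _ items17408 17408 facts_ok17408 j (by omega) (lt_of_lt_of_eq h (by decide +kernel))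
  rcases Nat.lt_or_ge j 18432 with h | h
  · exact checkFacts_spec _ _ _ _ _ _ items17920 17920 facts_ok17920 j (by omega) (lt_of_lt_of_eq h (by decide +kernel))
  rcases Nat.lt_or_ge j 18944 with h | h
  · exact checkFacts_spec _ _ _ _ _ _ items18432 18432 facts_ok18432 j (by omega) (lt_of_lt_of_eq h (by decide +kernel))
  rcases Nat.lt_or_ge j 19456 with h | h
  · exact checkFacts_spec _ _ _ _ _ _ items18944 18944 facts_ok18944 j (by omega) (lt_of_lt_of_eq h (by decide +kernel))
  rcases Nat.lt_or_ge j 19968 with h | h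
  · exact checkFacts_spec _ _ _ _ _ _ items19456 19456 facts_ok19456 j (by omega) (lt_of_lt_of_eq h (by decide +kernel))
  rcases Nat.lt_or_ge j 20480 with h | h
  · exact checkFacts_spec _ _ _ _ _ _ items19968 19968 facts_ok19968 j (by omega) (lt_of_lt_of_eq h (by decide +kernel))
  rcases Nat.lt_or_ge j 20992 with h | h
  · exact checkFacts_spec _ _ _ _ _ _ items20480 20480 facts_ok20480 j (by omega) (lt_of_lt_of_eq h (by decide +kernel))
  rcases Nat.lt_or_ge j 21504 with h | h
  · exact checkFacts_spec _ _ _ _ _ _ items20992 20992 facts_ok20992 j (by omega) (lt_of_lt_of_eq h (by decide +kernel))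
  rcases Nat.lt_or_ge j 22016 with h | h
  · exact checkFacts_spec _ _ _ _ _ _ items21504 21504 facts_ok21504 j (by omega) (lt_of_lt_of_eq h (by decide +kernel))
  rcases Nat.lt_or_ge j 22528 with h | h
  · exact checkFacts_spec _ _ _ _ _ _ items22016 22016 facts_ok22016 j (by omega) (lt_of_lt_of_eq h (by decide +kernel))
  rcases Nat.lt_or_ge j 23040 with h | h
  · exact checkFacts_spec _ _ _ _ _ _ items22528 22528 facts_ok22528 j (by omega) (lt_of_lt_of_eq h (by decide +kernel))
  rcases Nat.lt_or_ge j 23552 with h | h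
  · exact checkFacts_spec _ _ _ _ _ _ items23040 23040 facts_ok23040 j (by omega) (lt_of_lt_of_eq h (by decide +kernel))
  rcases Nat.lt_or_ge j 24064 with h | h
  · exact checkFacts_spec _ _ _ _ _ _ items23552 23552 facts_ok23552 j (by omega) (lt_of_lt_of_eq h (by decide +kernel))
  rcases Nat.lt_or_ge j 24576 with h | h
  · exact checkFacts_spec _ _ _ _ _ _ items24064 24064 facts_ok24064 j (by omega) (lt_of_lt_of_eq h (by decide +kernel))
  rcases Nat.lt_or_ge j 25088 with h | h
  · exact checkFacts_spec _ _ _ _ _ _ items24576 24576 facts_ok24576 j (by omega) (lt_of_lt_of_eq h (by decide +kernel))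
  rcases Nat.lt_or_ge j 25600 with h | h
  · exact checkFacts_spec _ _ _ _ _ _ items25088 25088 facts_ok25088 j (by omega) (lt_of_lt_of_eq h (by decide +kernel))
  rcases Nat.lt_or_ge j 26112 with h | h
  · exact checkFacts_spec _ _ _ _ _ _ items25600 25600 facts_ok25600 j (by omega) (lt_of_lt_of_eq h (by decide +kernel))
  rcases Nat.lt_or_ge j 26624 with h | h
  · exact checkFacts_spec _ _ _ _ _ _ items26112 26112 facts_ok26112 j (by omega) (lt_of_lt_of_eq h (by decide +kernel))
  rcases Nat.lt_or_ge j 27136 with h | h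
  · exact checkFacts_spec _ _ _ _ _ _ items26624 26624 facts_ok26624 j (by omega) (lt_of_lt_of_eq h (by decide +kernel))
  rcases Nat.lt_or_ge j 27648 with h | h
  · exact checkFacts_spec _ _ _ _ _ _ items27136 27136 facts_ok27136 j (by omega) (lt_of_lt_of_eq h (by decide +kernel))
  rcases Nat.lt_or_ge j 28160 with h | h
  · exact checkFacts_spec _ _ _ _ _ _ items27648 27648 facts_ok27648 j (by omega) (lt_of_lt_of_eq h (by decide +kernel))
  rcases Nat.lt_or_ge j 28672 with h | h
  · exact checkFacts_spec _ _ _ _ _ _ items28160 28160 facts_ok28160 j (by omega) (lt_of_lt_of_eq h (by decide +kernel))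
  rcases Nat.lt_or_ge j 29184 with h | h
  · exact checkFacts_spec _ _ _ _ _ _ items28672 28672 facts_ok28672 j (by omega) (lt_of_lt_of_eq h (by decide +kernel))
  rcases Nat.lt_or_ge j 29696 with h | h
  · exact checkFacts_spec _ _ _ _ _ _ items29184 29184 facts_ok29184 j (by omega) (lt_of_lt_of_eq h (by decide +kernel))
  rcases Nat.lt_or_ge j 30208 with h | h
  · exact checkFacts_spec _ _ _ _ _ _ items29696 29696 facts_ok29696 j (by omega) (lt_of_lt_of_eq h (by decide +kernel))
  rcases Nat.lt_or_ge j 30720 with h | h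
  · exact checkFacts_spec _ _ _ _ _ _ items30208 30208 facts_ok30208 j (by omega) (lt_of_lt_of_eq h (by decide +kernel))
  rcases Nat.lt_or_ge j 31232 with h | h
  · exact checkFacts_spec _ _ _ _ _ _ items30720 30720 facts_ok30720 j (by omega) (lt_of_lt_of_eq h (by decide +kernel))
  rcases Nat.lt_or_ge j 31744 with h | h
  · exact checkFacts_spec _ _ _ _ _ _ items31232 31232 facts_ok31232 j (by omega) (lt_of_lt_of_eq h (by decide +kernel))
  rcases Nat.lt_or_ge j 32256 with h | h
  · exact checkFacts_spec _ _ _ _ _ _ items31744 31744 facts_ok31744 j (by omega) (lt_of_lt_of_eq h (by decide +kernel))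
  rcases Nat.lt_or_ge j 32768 with h | h
  · exact checkFacts_spec _ _ _ _ _ _ items32256 32256 facts_ok32256 j (by omega) (lt_of_lt_of_eq h (by decide +kernel))
  rcases Nat.lt_or_ge j 33280 with h | h
  · exact checkFacts_spec _ _ _ _ _ _ items32768 32768 facts_ok32768 j (by omega) (lt_of_lt_of_eq h (by decide +kernel))
  rcases Nat.lt_or_ge j 33792 with h | h
  · exact checkFacts_spec _ _ _ _ _ _ items33280 33280 facts_ok33280 j (by omega) (lt_of_lt_of_eq h (by decide +kernel))
  rcases Nat.lt_or_ge j 34304 with h | h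
  · exact checkFacts_spec _ _ _ _ _ _ items33792 33792 facts_ok33792 j (by omega) (lt_of_lt_of_eq h (by decide +kernel))
  rcases Nat.lt_or_ge j 34816 with h | h
  · exact checkFacts_spec _ _ _ _ _ _ items34304 34304 facts_ok34304 j (by omega) (lt_of_lt_of_eq h (by decide +kernel))
  rcases Nat.lt_or_ge j 35328 with h | h
  · exact checkFacts_spec _ _ _ _ _ _ items34816 34816 facts_ok34816 j (by omega) (lt_of_lt_of_eq h (by decide +kernel))
  rcases Nat.lt_or_ge j 35840 with h | h
  · exact checkFacts_spec _ _ _ _ _ _ items35328 35328 facts_ok35328 j (by omega) (lt_of_lt_of_eq h (by decide +kernel))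
  rcases Nat.lt_or_ge j 36352 with h | h
  · exact checkFacts_spec _ _ _ _ _ _ items35840 35840 facts_ok35840 j (by omega) (lt_of_lt_of_eq h (by decide +kernel))
  rcases Nat.lt_or_ge j 36864 with h | h
  · exact checkFacts_spec _ _ _ _ _ _ items36352 36352 facts_ok36352 j (by omega) (lt_of_lt_of_eq h (by decide +kernel))
  rcases Nat.lt_or_ge j 37376 with h | h
  · exact checkFacts_spec _ _ _ _ _ _ items36864 36864 facts_ok36864 j (by omega) (lt_of_lt_of_eq h (by decide +kernel))
  rcases Nat.lt_or_ge j 37888 with h | h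
  · exact checkFacts_spec _ _ _ _ _ _ items37376 37376 facts_ok37376 j (by omega) (lt_of_lt_of_eq h (by decide +kernel))
  rcases Nat.lt_or_ge j 38400 with h | h
  · exact checkFacts_spec _ _ _ _ _ _ items37888 37888 facts_ok37888 j (by omega) (lt_of_lt_of_eq h (by decide +kernel))
  rcases Nat.lt_or_ge j 38912 with h | h
  · exact checkFacts_spec _ _ _ _ _ _ items38400 38400 facts_ok38400 j (by omega) (lt_of_lt_of_eq h (by decide +kernel))
  rcases Nat.lt_or_ge j 39424 with h | h
  · exact checkFacts_spec _ _ _ _ _ _ items38912 38912 facts_ok38912 j (by omega) (lt_of_lt_of_eq h (by decide +kernel))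
  rcases Nat.lt_or_ge j 39936 with h | h
  · exact checkFacts_spec _ _ _ _ _ _ items39424 39424 facts_ok39424 j (by omega) (lt_of_lt_of_eq h (by decide +kernel))
  rcases Nat.lt_or_ge j 40448 with h | h
  · exact checkFacts_spec _ _ _ _ _ _ items39936 39936 facts_ok39936 j (by omega) (lt_of_lt_of_eq h (by decide +kernel))
  rcases Nat.lt_or_ge j 40960 with h | h
  · exact checkFacts_spec _ _ _ _ _ _ items40448 40448 facts_ok40448 j (by omega) (lt_of_lt_of_eq h (by decide +kernel))
  rcases Nat.lt_or_ge j 41472 with h | h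
  · exact checkFacts_spec _ _ _ _ _ _ items40960 40960 facts_ok40960 j (by omega) (lt_of_lt_of_eq h (by decide +kernel))
  rcases Nat.lt_or_ge j 41984 with h | h
  · exact checkFacts_spec _ _ _ _ _ _ items41472 41472 facts_ok41472 j (by omega) (lt_of_lt_of_eq h (by decide +kernel))
  rcases Nat.lt_or_ge j 42496 with h | h
  · exact checkFacts_spec _ _ _ _ _ _ items41984 41984 facts_ok41984 j (by omega) (lt_of_lt_of_eq h (by decide +kernel))
  rcases Nat.lt_or_ge j 43008 with h | h
  · exact checkFacts_spec _ _ _ _ _ _ items42496 42496 facts_ok42496 j (by omega) (lt_of_lt_of_eq h (by decide +kernel))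
  rcases Nat.lt_or_ge j 43520 with h | h
  · exact checkFacts_spec _ _ _ _ _ _ items43008 43008 facts_ok43008 j (by omega) (lt_of_lt_of_eq h (by decide +kernel))
  rcases Nat.lt_or_ge j 44032 with h | h
  · exact checkFacts_spec _ _ _ _ _ _ items43520 43520 facts_ok43520 j (by omega) (lt_of_lt_of_eq h (by decide +kernel))
  rcases Nat.lt_or_ge j 44544 with h | h
  · exact checkFacts_spec _ _ _ _ _ _ items44032 44032 facts_ok44032 j (by omega) (lt_of_lt_of_eq h (by decide +kernel))
  rcases Nat.lt_or_ge j 45056 with h | h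
  · exact checkFacts_spec _ _ _ _ _ _ items44544 44544 facts_ok44544 j (by omega) (lt_of_lt_of_eq h (by decide +kernel))
  rcases Nat.lt_or_ge j 45568 with h | h
  · exact checkFacts_spec _ _ _ _ _ _ items45056 45056 facts_ok45056 j (by omega) (lt_of_lt_of_eq h (by decide +kernel))
  rcases Nat.lt_or_ge j 46080 with h | h
  · exact checkFacts_spec _ _ _ _ _ _ items45568 45568 facts_ok45568 j (by omega) (lt_of_lt_of_eq h (by decide +kernel))
  rcases Nat.lt_or_ge j 46592 with h | h
  · exact checkFacts_spec _ _ _ _ _ _ items46080 46080 facts_ok46080 j (by omega) (lt_of_lt_of_eq h (by decide +kernel))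
  rcases Nat.lt_or_ge j 47104 with h | h
  · exact checkFacts_spec _ _ _ _ _ _ items46592 46592 facts_ok46592 j (by omega) (lt_of_lt_of_eq h (by decide +kernel))
  rcases Nat.lt_or_ge j 47616 with h | h
  · exact checkFacts_spec _ _ _ _ _ _ items47104 47104 facts_ok47104 j (by omega) (lt_of_lt_of_eq h (by decide +kernel))
  rcases Nat.lt_or_ge j 48128 with h | h
  · exact checkFacts_spec _ _ _ _ _ _ items47616 47616 facts_ok47616 j (by omega) (lt_of_lt_of_eq h (by decide +kernel))
  rcases Nat.lt_or_ge j 48640 with h | h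
  · exact checkFacts_spec _ _ _ _ _ _ items48128 48128 facts_ok48128 j (by omega) (lt_of_lt_of_eq h (by decide +kernel))
  rcases Nat.lt_or_ge j 49152 with h | h
  · exact checkFacts_spec _ _ _ _ _ _ items48640 48640 facts_ok48640 j (by omega) (lt_of_lt_of_eq h (by decide +kernel))
  rcases Nat.lt_or_ge j 49664 with h | h
  · exact checkFacts_spec _ _ _ _ _ _ items49152 49152 facts_ok49152 j (by omega) (lt_of_lt_of_eq h (by decide +kernel))
  rcases Nat.lt_or_ge j 50176 with h | h
  · exact checkFacts_spec _ _ _ _ _ _ items49664 49664 facts_ok49664 j (by omega) (lt_of_lt_of_eq h (by decide +kernel))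
  rcases Nat.lt_or_ge j 50688 with h | h
  · exact checkFacts_spec _ _ _ _ _ _ items50176 50176 facts_ok50176 j (by omega) (lt_of_lt_of_eq h (by decide +kernel))
  rcases Nat.lt_or_ge j 51200 with h | h
  · exact checkFacts_spec _ _ _ _ _ _ items50688 50688 facts_ok50688 j (by omega) (lt_of_lt_of_eq h (by decide +kernel))
  rcases Nat.lt_or_ge j 51712 with h | h
  · exact checkFacts_spec _ _ _ _ _ _ items51200 51200 facts_ok51200 j (by omega) (lt_of_lt_of_eq h (by decide +kernel))
  rcases Nat.lt_or_ge j 52224 with h | h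
  · exact checkFacts_spec _ _ _ _ _ _ items51712 51712 facts_ok51712 j (by omega) (lt_of_lt_of_eq h (by decide +kernel))
  rcases Nat.lt_or_ge j 52736 with h | h
  · exact checkFacts_spec _ _ _ _ _ _ items52224 52224 facts_ok52224 j (by omega) (lt_of_lt_of_eq h (by decide +kernel))
  rcases Nat.lt_or_ge j 53248 with h | h
  · exact checkFacts_spec _ _ _ _ _ _ items52736 52736 facts_ok52736 j (by omega) (lt_of_lt_of_eq h (by decide +kernel))
  rcases Nat.lt_or_ge j 53760 with h | h
  · exact checkFacts_spec _ _ _ _ _ _ items53248 53248 facts_ok53248 j (by omega) (lt_of_lt_of_eq h (by decide +kernel))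
  rcases Nat.lt_or_ge j 54272 with h | h
  · exact checkFacts_spec _ _ _ _ _ _ items53760 53760 facts_ok53760 j (by omega) (lt_of_lt_of_eq h (by decide +kernel))
  rcases Nat.lt_or_ge j 54784 with h | h
  · exact checkFacts_spec _ _ _ _ _ _ items54272 54272 facts_ok54272 j (by omega) (lt_of_lt_of_eq h (by decide +kernel))
  rcases Nat.lt_or_ge j 55296 with h | h
  · exact checkFacts_spec _ _ _ _ _ _ items54784 54784 facts_ok54784 j (by omega) (lt_of_lt_of_eq h (by decide +kernel))
  rcases Nat.lt_or_ge j 55808 with h | h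
  · exact checkFacts_spec _ _ _ _ _ _ items55296 55296 facts_ok55296 j (by omega) (lt_of_lt_of_eq h (by decide +kernel))
  rcases Nat.lt_or_ge j 56320 with h | h
  · exact checkFacts_spec _ _ _ _ _ _ items55808 55808 facts_ok55808 j (by omega) (lt_of_lt_of_eq h (by decide +kernel))
  rcases Nat.lt_or_ge j 56832 with h | h
  · exact checkFacts_spec _ _ _ _ _ _ items56320 56320 facts_ok56320 j (by omega) (lt_of_lt_of_eq h (by decide +kernel))
  rcases Nat.lt_or_ge j 57344 with h | h
  · exact checkFacts_spec _ _ _ _ _ _ items56832 56832 facts_ok56832 j (by omega) (lt_of_lt_of_eq h (by decide +kernel))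
  rcases Nat.lt_or_ge j 57856 with h | h
  · exact checkFacts_spec _ _ _ _ _ _ items57344 57344 facts_ok57344 j (by omega) (lt_of_lt_of_eq h (by decide +kernel))
  rcases Nat.lt_or_ge j 58368 with h | h
  · exact checkFacts_spec _ _ _ _ _ _ items57856 57856 facts_ok57856 j (by omega) (lt_of_lt_of_eq h (by decide +kernel))
  rcases Nat.lt_or_ge j 58880 with h | h
  · exact checkFacts_spec _ _ _ _ _ _ items58368 58368 facts_ok58368 j (by omega) (lt_of_lt_of_eq h (by decide +kernel))
  rcases Nat.lt_or_ge j 59392 with h | h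
  · exact checkFacts_spec _ _ _ _ _ _ items58880 58880 facts_ok58880 j (by omega) (lt_of_lt_of_eq h (by decide +kernel))
  rcases Nat.lt_or_ge j 59904 with h | h
  · exact checkFacts_spec _ _ _ _ _ _ items59392 59392 facts_ok59392 j (by omega) (lt_of_lt_of_eq h (by decide +kernel))
  rcases Nat.lt_or_ge j 60416 with h | h
  · exact checkFacts_spec _ _ _ _ _ _ items59904 59904 facts_ok59904 j (by omega) (lt_of_lt_of_eq h (by decide +kernel))
  rcases Nat.lt_or_ge j 60928 with h | h
  · exact checkFacts_spec _ _ _ _ _ _ items60416 60416 facts_ok60416 j (by omega) (lt_of_lt_of_eq h (by decide +kernel))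
  rcases Nat.lt_or_ge j 61440 with h | h
  · exact checkFacts_spec _ _ _ _ _ _ items60928 60928 facts_ok60928 j (by omega) (lt_of_lt_of_eq h (by decide +kernel))
  rcases Nat.lt_or_ge j 61952 with h | h
  · exact checkFacts_spec _ _ _ _ _ _ items61440 61440 facts_ok61440 j (by omega) (lt_of_lt_of_eq h (by decide +kernel))
  rcases Nat.lt_or_ge j 62464 with h | h
  · exact checkFacts_spec _ _ _ _ _ _ items61952 61952 facts_ok61952 j (by omega) (lt_of_lt_of_eq h (by decide +kernel))
  rcases Nat.lt_or_ge j 62976 with h | h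
  · exact checkFacts_spec _ _ _ _ _ _ items62464 62464 facts_ok62464 j (by omega) (lt_of_lt_of_eq h (by decide +kernel))
  rcases Nat.lt_or_ge j 63488 with h | h
  · exact checkFacts_spec _ _ _ _ _ _ items62976 62976 facts_ok62976 j (by omega) (lt_of_lt_of_eq h (by decide +kernel))
  rcases Nat.lt_or_ge j 64000 with h | h
  · exact checkFacts_spec _ _ _ _ _ _ items63488 63488 facts_ok63488 j (by omega) (lt_of_lt_of_eq h (by decide +kernel))
  rcases Nat.lt_or_ge j 64512 with h | h
  · exact checkFacts_spec _ _ _ _ _ _ items64000 64000 facts_ok64000 j (by omega) (lt_of_lt_of_eq h (by decide +kernel))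
  rcases Nat.lt_or_ge j 65024 with h | h
  · exact checkFacts_spec _ _ _ _ _ _ items64512 64512 facts_ok64512 j (by omega) (lt_of_lt_of_eq h (by decide +kernel))
  rcases Nat.lt_or_ge j 65536 with h | h
  · exact checkFacts_spec _ _ _ _ _ _ items65024 65024 facts_ok65024 j (by omega) (lt_of_lt_of_eq h (by decide +kernel))
  rcases Nat.lt_or_ge j 66048 with h | h
  · exact checkFacts_spec _ _ _ _ _ _ items65536 65536 facts_ok65536 j (by omega) (lt_of_lt_of_eq h (by decide +kernel))
  rcases Nat.lt_or_ge j 66560 with h | h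
  · exact checkFacts_spec _ _ _ _ _ _ items66048 66048 facts_ok66048 j (by omega) (lt_of_lt_of_eq h (by decide +kernel))
  rcases Nat.lt_or_ge j 67072 with h | h
  · exact checkFacts_spec _ _ _ _ _ _ items66560 66560 facts_ok66560 j (by omega) (lt_of_lt_of_eq h (by decide +kernel))
  rcases Nat.lt_or_ge j 67584 with h | h
  · exact checkFacts_spec _ _ _ _ _ _ items67072 67072 facts_ok67072 j (by omega) (lt_of_lt_of_eq h (by decide +kernel))
  rcases Nat.lt_or_ge j 68096 with h | h
  · exact checkFacts_spec _ _ _ _ _ _ items67584 67584 facts_ok67584 j (by omega) (lt_of_lt_of_eq h (by decide +kernel))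
  rcases Nat.lt_or_ge j 68608 with h | h
  · exact checkFacts_spec _ _ _ _ _ _ items68096 68096 facts_ok68096 j (by omega) (lt_of_lt_of_eq h (by decide +kernel))
  rcases Nat.lt_or_ge j 69120 with h | h
  · exact checkFacts_spec _ _ _ _ _ _ items68608 68608 facts_ok68608 j (by omega) (lt_of_lt_of_eq h (by decide +kernel))
  rcases Nat.lt_or_ge j 69632 with h | h
  · exact checkFacts_spec _ _ _ _ _ _ items69120 69120 facts_ok69120 j (by omega) (lt_of_lt_of_eq h (by decide +kernel))
  rcases Nat.lt_or_ge j 70144 with h | h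
  · exact checkFacts_spec _ _ _ _ _ _ items69632 69632 facts_ok69632 j (by omega) (lt_of_lt_of_eq h (by decide +kernel))
  rcases Nat.lt_or_ge j 70656 with h | h
  · exact checkFacts_spec _ _ _ _ _ _ items70144 70144 facts_ok70144 j (by omega) (lt_of_lt_of_eq h (by decide +kernel))
  rcases Nat.lt_or_ge j 71168 with h | h
  · exact checkFacts_spec _ _ _ _ _ _ items70656 70656 facts_ok70656 j (by omega) (lt_of_lt_of_eq h (by decide +kernel))
  rcases Nat.lt_or_ge j 71680 with h | h
  · exact checkFacts_spec _ _ _ _ _ _ items71168 71168 facts_ok71168 j (by omega) (lt_of_lt_of_eq h (by decide +kernel))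
  rcases Nat.lt_or_ge j 72192 with h | h
  · exact checkFacts_spec _ _ _ _ _ _ items71680 71680 facts_ok71680 j (by omega) (lt_of_lt_of_eq h (by decide +kernel))
  rcases Nat.lt_or_ge j 72704 with h | h
  · exact checkFacts_spec _ _ _ _ _ _ items72192 72192 facts_ok72192 j (by omega) (lt_of_lt_of_eq h (by decide +kernel))
  rcases Nat.lt_or_ge j 73216 with h | h
  · exact checkFacts_spec _ _ _ _ _ _ items72704 72704 facts_ok72704 j (by omega) (lt_of_lt_of_eq h (by decide +kernel))
  rcases Nat.lt_or_ge j 73728 with h | h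
  · exact checkFacts_spec _ _ _ _ _ _ items73216 73216 facts_ok73216 j (by omega) (lt_of_lt_of_eq h (by decide +kernel))
  rcases Nat.lt_or_ge j 74240 with h | h
  · exact checkFacts_spec _ _ _ _ _ _ items73728 73728 facts_ok73728 j (by omega) (lt_of_lt_of_eq h (by decide +kernel))
  rcases Nat.lt_or_ge j 74752 with h | h
  · exact checkFacts_spec _ _ _ _ _ _ items74240 74240 facts_ok74240 j (by omega) (lt_of_lt_of_eq h (by decide +kernel))
  rcases Nat.lt_or_ge j 75264 with h | h
  · exact checkFacts_spec _ _ _ _ _ _ items74752 74752 facts_ok74752 j (by omega) (lt_of_lt_of_eq h (by decide +kernel))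
  rcases Nat.lt_or_ge j 75776 with h | h
  · exact checkFacts_spec _ _ _ _ _ _ items75264 75264 facts_ok75264 j (by omega) (lt_of_lt_of_eq h (by decide +kernel))
  rcases Nat.lt_or_ge j 76288 with h | h
  · exact checkFacts_spec _ _ _ _ _ _ items75776 75776 facts_ok75776 j (by omega) (lt_of_lt_of_eq h (by decide +kernel))
  rcases Nat.lt_or_ge j 76800 with h | h
  · exact checkFacts_spec _ _ _ _ _ _ items76288 76288 facts_ok76288 j (by omega) (lt_of_lt_of_eq h (by decide +kernel))
  rcases Nat.lt_or_ge j 77312 with h | h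
  · exact checkFacts_spec _ _ _ _ _ _ items76800 76800 facts_ok76800 j (by omega) (lt_of_lt_of_eq h (by decide +kernel))
  rcases Nat.lt_or_ge j 77824 with h | h
  · exact checkFacts_spec _ _ _ _ _ _ items77312 77312 facts_ok77312 j (by omega) (lt_of_lt_of_eq h (by decide +kernel))
  rcases Nat.lt_or_ge j 78336 with h | h
  · exact checkFacts_spec _ _ _ _ _ _ items77824 77824 facts_ok77824 j (by omega) (lt_of_lt_of_eq h (by decide +kernel))
  rcases Nat.lt_or_ge j 78848 with h | h
  · exact checkFacts_spec _ _ _ _ _ _ items78336 78336 facts_ok78336 j (by omega) (lt_of_lt_of_eq h (by decide +kernel))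
  rcases Nat.lt_or_ge j 79360 with h | h
  · exact checkFacts_spec _ _ _ _ _ _ items78848 78848 facts_ok78848 j (by omega) (lt_of_lt_of_eq h (by decide +kernel))
  rcases Nat.lt_or_ge j 79872 with h | h
  · exact checkFacts_spec _ _ _ _ _ _ items79360 79360 facts_ok79360 j (by omega) (lt_of_lt_of_eq h (by decide +kernel))
  rcases Nat.lt_or_ge j 80384 with h | h
  · exact checkFacts_spec _ _ _ _ _ _ items79872 79872 facts_ok79872 j (by omega) (lt_of_lt_of_eq h (by decide +kernel))
  rcases Nat.lt_or_ge j 80896 with h | h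
  · exact checkFacts_spec _ _ _ _ _ _ items80384 80384 facts_ok80384 j (by omega) (lt_of_lt_of_eq h (by decide +kernel))
  rcases Nat.lt_or_ge j 81408 with h | h
  · exact checkFacts_spec _ _ _ _ _ _ items80896 80896 facts_ok80896 j (by omega) (lt_of_lt_of_eq h (by decide +kernel))
  rcases Nat.lt_or_ge j 81920 with h | h
  · exact checkFacts_spec _ _ _ _ _ _ items81408 81408 facts_ok81408 j (by omega) (lt_of_lt_of_eq h (by decide +kernel))
  rcases Nat.lt_or_ge j 82432 with h | h
  · exact checkFacts_spec _ _ _ _ _ _ items81920 81920 facts_ok81920 j (by omega) (lt_of_lt_of_eq h (by decide +kernel))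
  rcases Nat.lt_or_ge j 82944 with h | h
  · exact checkFacts_spec _ _ _ _ _ _ items82432 82432 facts_ok82432 j (by omega) (lt_of_lt_of_eq h (by decide +kernel))
  rcases Nat.lt_or_ge j 83456 with h | h
  · exact checkFacts_spec _ _ _ _ _ _ items82944 82944 facts_ok82944 j (by omega) (lt_of_lt_of_eq h (by decide +kernel))
  rcases Nat.lt_or_ge j 83968 with h | h
  · exact checkFacts_spec _ _ _ _ _ _ items83456 83456 facts_ok83456 j (by omega) (lt_of_lt_of_eq h (by decide +kernel))
  rcases Nat.lt_or_ge j 84480 with h | h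
  · exact checkFacts_spec _ _ _ _ _ _ items83968 83968 facts_ok83968 j (by omega) (lt_of_lt_of_eq h (by decide +kernel))
  rcases Nat.lt_or_ge j 84992 with h | h
  · exact checkFacts_spec _ _ _ _ _ _ items84480 84480 facts_ok84480 j (by omega) (lt_of_lt_of_eq h (by decide +kernel))
  rcases Nat.lt_or_ge j 85504 with h | h
  · exact checkFacts_spec _ _ _ _ _ _ items84992 84992 facts_ok84992 j (by omega) (lt_of_lt_of_eq h (by decide +kernel))
  rcases Nat.lt_or_ge j 86016 with h | h
  · exact checkFacts_spec _ _ _ _ _ _ items85504 85504 facts_ok85504 j (by omega) (lt_of_lt_of_eq h (by decide +kernel))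
  rcases Nat.lt_or_ge j 86528 with h | h
  · exact checkFacts_spec _ _ _ _ _ _ items86016 86016 facts_ok86016 j (by omega) (lt_of_lt_of_eq h (by decide +kernel))
  rcases Nat.lt_or_ge j 87040 with h | h
  · exact checkFacts_spec _ _ _ _ _ _ items86528 86528 facts_ok86528 j (by omega) (lt_of_lt_of_eq h (by decide +kernel))
  rcases Nat.lt_or_ge j 87552 with h | h
  · exact checkFacts_spec _ _ _ _ _ _ items87040 87040 facts_ok87040 j (by omega) (lt_of_lt_of_eq h (by decide +kernel))
  rcases Nat.lt_or_ge j 87660 with h | h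
  · exact checkFacts_spec _ _ _ _ _ _ items87552 87552 facts_ok87552 j (by omega) (lt_of_lt_of_eq h (by decide +kernel))
  omega
theorem rows_0 : checkRows facts 18364758543347775060 lives entryFact table 3906 8 87660 1024 0 = true := by decide +kernel
theorem rows_1024 : checkRows facts 18364758543347775060 lives entryFact table 3906 8 87660 1024 1024 = true := by decide +kernel
theorem rows_2048 : checkRows facts 18364758543347775060 lives entryFact table 3906 8 87660 1024 2048 = true := by decide +kernel
theorem rows_3072 : checkRows facts 18364758543347775060 lives entryFact table 3906 8 87660 834 3072 = true := by decide +kernel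
theorem rows_ok : ∀ k < 3906, checkRow facts 18364758543347775060 lives entryFact 3906 8 87660 k table 0 = true := by
  intro k hk
  rcases Nat.lt_or_ge k 1024 with h | h
  · exact checkRows_spec _ _ _ _ _ _ _ _ _ _ rows_0 k (by omega) (by omega)
  rcases Nat.lt_or_ge k 2048 with h | h
  · exact checkRows_spec _ _ _ _ _ _ _ _ _ _ rows_1024 k (by omega) (by omega)
  rcases Nat.lt_or_ge k 3072 with h | h
  · exact checkRows_spec _ _ _ _ _ _ _ _ _ _ rows_2048 k (by omega) (by omega)
  rcases Nat.lt_or_ge k 3906 with h | h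
  · exact checkRows_spec _ _ _ _ _ _ _ _ _ _ rows_3072 k (by omega) (by omega)
  omega
theorem words_fit : words.fits 320 25 = true := by decide +kernel
theorem words_eq : listEq (words.entries 320 25) (allCodes 18364758543347775060 8 lsl) = true := by decide +kernel
theorem subs_fit : subs.fits 320 25 = true := by decide +kernel
theorem subs_eq : listEq (subs.entries 320 25) (subCodes 18364758543347775060 lsub) = true := by decide +kernel
theorem lives_zero : Nat.beq (lives.get 20 0) 0 = true := by decide +kernel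

theorem covers : CoversCosets (Level gP [0, 1, 2, 3, 4, 5, 6, 7]) (Level gP [0, 1, 2, 4, 5, 6]) 3906 :=
  covers_level gP15 gPinv lsG lsG_words [0, 1, 2, 3, 4, 5, 6, 7] [0, 1, 2, 4, 5, 6] 18364758543347775060 (ip := 18364758543347775060) (by decide +kernel) lsl lsub (by decide +kernel) (by decide +kernel)
    facts L0.words subs lives entryFact L0.table 320 25 27710 87660 3906 8 rfl rfl (by omega)
    words_fit words_eq subs_fit subs_eq facts_ok lives_zero rows_ok

end L0

end CfsgLib.LyG2
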