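import Cfsg.Agent.Lib.LyG2.Pres
import Cfsg.Agent.Lib.Chev.BN
import Cfsg.Agent.Lib.Chev.OrderCases

/-!
The four letters as elements of the adjoint Chevalley group `G₂(5)`.
-/

set_option autoImplicit false
set_option linter.all false
set_option maxRecDepth 20000

namespace CfsgLib.LyG2

open CfsgLib.CosetEnum Cfsg.Lie Matrix
open CfsgLib.Chev (elX coe_elX elX_add elX_zero elX_mem_group exists_checked)

instance fact_prime_five : Fact (Nat.Prime 5) := ⟨by norm_num⟩

theorem gData : GenData 14 4 gMats :=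
  GenData.of_check (by omega) (by decide +kernel) rfl (by decide +kernel)

theorem rData : MatData 14 rMats := MatData.of_check (by omega) (by decide +kernel)

/-- Coordinates of the adjoint module. -/
def eI : Fin 14 ≃ chevG2.Idx := (finSumFinEquiv (m := 2) (n := 12)).symm

/-- The change of index set. -/
def trM : Matrix (Fin 14) (Fin 14) (ZMod 5) ≃* Matrix chevG2.Idx chevG2.Idx (ZMod 5) :=
  (Matrix.reindexAlgEquiv (ZMod 5) (ZMod 5) eI).toMulEquiv

theorem rels_chk : ((List.range 14).all fun i => keepIdx.all fun j =>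
    Nat.beq (appW 14 gMats (codes (rel4 j).toWord) (65536 ^ i)) (65536 ^ i)) = true := by
  decide +kernel

theorem F_rel {r : FreeGroup (Fin 4)} (hr : r ∈ rels4) : gData.F r = 1 := by
  obtain ⟨j, hj, rfl⟩ := List.mem_map.mp hr
  refine gData.F_eq_one _ fun i hi => ?_
  exact Nat.eq_of_beq_eq_true
    (List.all_eq_true.mp (List.all_eq_true.mp rels_chk i (List.mem_range.mpr hi)) j hj)

/-- The map to matrices of degree 14. -/
def ψ0 : P →* (Matrix (Fin 14) (Fin 14) (ZMod 5))ˣ :=
  PresentedGroup.toGroup (f := gData.U) fun r hr => F_rel hr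

/-- The map to the adjoint matrices. -/
def ψ : P →* GL chevG2.Idx (ZMod 5) := (Units.map trM.toMonoidHom).comp ψ0

theorem ψ_of (j : Fin 4) :
    ((ψ (PresentedGroup.of j) : GL chevG2.Idx (ZMod 5)) : Matrix chevG2.Idx chevG2.Idx (ZMod 5)) =
      trM (Mx 14 gMats j) := by
  show trM ((ψ0 (PresentedGroup.of j) : (Matrix (Fin 14) (Fin 14) (ZMod 5))ˣ) : Matrix _ _ _) = _
  have e : ψ0 (PresentedGroup.of j) = gData.U j := PresentedGroup.toGroup.of _
  rw [e]
  rfl

theorem ψ0_mk (w : FreeGroup (Fin 4)) : ψ0 (PresentedGroup.mk _ w) = gData.F w := rfl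

/-- The root matrices of the adjoint representation. -/
def xG (r : Fin 12) : Matrix chevG2.Idx chevG2.Idx (ZMod 5) := chevG2.xMat (ZMod 5) r 1

theorem root_chk : ((List.finRange 12).all fun r => (List.finRange 14).all fun u => (List.finRange 14).all fun v =>
    decide (xG r (eI u) (eI v) = Mx 14 rMats r u v)) = true := by
  decide +kernel

theorem root_entries : ∀ r : Fin 12, ∀ u v : Fin 14, xG r (eI u) (eI v) = Mx 14 rMats r u v := fun r u v =>
  of_decide_eq_true (List.all_eq_true.mp (List.all_eq_true.mp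
    (List.all_eq_true.mp root_chk r (List.mem_finRange r)) u (List.mem_finRange u)) v (List.mem_finRange v))

theorem root_mat (r : ℕ) (hr : r < 12) : trM (Mx 14 rMats r) = chevG2.x (ZMod 5) r 1 := by
  rw [ChevalleyDatum.x, dif_pos (show r < chevG2.nroots from hr)]
  funext a b
  obtain ⟨u, rfl⟩ := eI.surjective a
  obtain ⟨v, rfl⟩ := eI.surjective b
  show Mx 14 rMats r (eI.symm (eI u)) (eI.symm (eI v)) = _
  rw [Equiv.symm_apply_apply, Equiv.symm_apply_apply]
  exact (root_entries ⟨r, hr⟩ u v).symm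

theorem gWords_chk : ((List.range 4).all fun j => (gWords.getD j []).all (fun x => decide (x < 12)) &&
    (List.range 14).all fun i =>
      Nat.beq (appW 14 rMats (gWords.getD j []) (65536 ^ i)) ((gMats.getD j []).getD i 0)) = true := by
  decide +kernel

theorem rWords_chk : ((List.range 12).all fun r => (rWords.getD r []).all (fun x => decide (x < 8)) &&
    (List.range 14).all fun i =>
      Nat.beq (appW 14 gMats (rWords.getD r []) (65536 ^ i)) ((rMats.getD r []).getD i 0)) = true := by
  decide +kernel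

theorem ψ_mem_of (j : Fin 4) : ψ (PresentedGroup.of j) ∈ chevG2.group (ZMod 5) := by
  obtain ⟨T, hc⟩ := exists_checked (D := chevG2) (by simp)
  have h := List.all_eq_true.mp gWords_chk j (List.mem_range.mpr j.isLt)
  simp only [Bool.and_eq_true, List.all_eq_true, decide_eq_true_eq] at h
  have e := prod_eq_of_rows rData _ h.1 (fun i => (gMats.getD j []).getD i 0)
    fun i hi => Nat.eq_of_beq_eq_true (h.2 i (List.mem_range.mpr hi))
  have key : ψ (PresentedGroup.of j) =
      ((gWords.getD j []).map fun r => elX chevG2 (ZMod 5) r 1).prod := by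
    refine Units.ext ?_
    rw [ψ_of, show Mx 14 gMats j = ((gWords.getD j []).map (Mx 14 rMats)).prod from e.symm, map_list_prod,
      ← Units.coeHom_apply, map_list_prod, List.map_map, List.map_map]
    refine congrArg List.prod (List.map_congr_left fun r hr => ?_)
    show trM (Mx 14 rMats r) = ((elX chevG2 (ZMod 5) r 1 : GL chevG2.Idx (ZMod 5)) : Matrix _ _ _)
    rw [root_mat r (h.1 r hr), coe_elX hc (ZMod 5) (h.1 r hr)]
  rw [key]
  refine Subgroup.list_prod_mem _ fun g hg => ?_
  obtain ⟨r, hr, rfl⟩ := List.mem_map.mp hg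
  exact elX_mem_group hc (h.1 r hr) 1

theorem ψ0_mk_of (j : Fin 4) : ψ0 (PresentedGroup.mk _ (FreeGroup.of j)) = gData.U j :=
  PresentedGroup.toGroup.of _

theorem ψ0_mk_inv (j : Fin 4) : ψ0 (PresentedGroup.mk _ (FreeGroup.of j)⁻¹) = (gData.U j)⁻¹ := by
  rw [map_inv, map_inv, ψ0_mk_of]

theorem Mx_letter : ∀ x < 8, ((ψ0 (gP x) : (Matrix (Fin 14) (Fin 14) (ZMod 5))ˣ) : Matrix _ _ _) = Mx 14 gMats x := by
  intro x hx
  interval_cases x
  · exact congrArg Units.val (ψ0_mk_of 0)
  · exact congrArg Units.val (ψ0_mk_of 1)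
  · exact congrArg Units.val (ψ0_mk_of 2)
  · exact congrArg Units.val (ψ0_mk_of 3)
  · exact congrArg Units.val (ψ0_mk_inv 0)
  · exact congrArg Units.val (ψ0_mk_inv 1)
  · exact congrArg Units.val (ψ0_mk_inv 2)
  · exact congrArg Units.val (ψ0_mk_inv 3)

theorem root_mem_range (r : ℕ) (hr : r < 12) : elX chevG2 (ZMod 5) r 1 ∈ ψ.range := by
  obtain ⟨T, hc⟩ := exists_checked (D := chevG2) (by simp)
  have h := List.all_eq_true.mp rWords_chk r (List.mem_range.mpr hr)
  simp only [Bool.and_eq_true, List.all_eq_true, decide_eq_true_eq] at h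
  have hlt : ∀ x ∈ rWords.getD r [], x < gMats.length := fun x hx => by rw [gData.len]; exact h.1 x hx
  have e := prod_eq_of_rows gData.data _ hlt (fun i => (rMats.getD r []).getD i 0)
    fun i hi => Nat.eq_of_beq_eq_true (h.2 i (List.mem_range.mpr hi))
  refine ⟨((rWords.getD r []).map gP).prod, Units.ext ?_⟩
  rw [coe_elX hc (ZMod 5) hr, ← root_mat r hr,
    show Mx 14 rMats r = ((rWords.getD r []).map (Mx 14 gMats)).prod from e.symm, map_list_prod, map_list_prod,
    ← Units.coeHom_apply, map_list_prod, List.map_map, List.map_map, List.map_map]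
  refine congrArg List.prod (List.map_congr_left fun x hx => ?_)
  show trM ((ψ0 (gP x) : (Matrix (Fin 14) (Fin 14) (ZMod 5))ˣ) : Matrix _ _ _) = trM (Mx 14 gMats x)
  rw [Mx_letter x (h.1 x hx)]

theorem range_eq : ψ.range = chevG2.group (ZMod 5) := by
  obtain ⟨T, hc⟩ := exists_checked (D := chevG2) (by simp)
  apply le_antisymm
  · rw [MonoidHom.range_eq_map, ← PresentedGroup.closure_range_of, MonoidHom.map_closure, Subgroup.closure_le]
    rintro _ ⟨_, ⟨j, rfl⟩, rfl⟩
    exact ψ_mem_of j
  · rw [ChevalleyDatum.group, Subgroup.closure_le]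
    rintro g ⟨r, t, hg⟩
    have e : g = elX chevG2 (ZMod 5) r.val 1 ^ t.val := by
      have hp : ∀ n : ℕ, elX chevG2 (ZMod 5) r.val 1 ^ n = elX chevG2 (ZMod 5) r.val (n : ZMod 5) := by
        intro n
        induction n with
        | zero => rw [pow_zero, Nat.cast_zero, elX_zero hc (ZMod 5) r.isLt]
        | succ n ih => rw [pow_succ, ih, elX_add hc (ZMod 5) r.isLt, Nat.cast_succ]
      rw [hp, ZMod.natCast_zmod_val]
      refine Units.ext ?_
      rw [hg, coe_elX hc (ZMod 5) r.isLt, ChevalleyDatum.x, dif_pos r.isLt]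
    rw [e]
    exact pow_mem (root_mem_range r.val r.isLt) _

end CfsgLib.LyG2
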