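import Cfsg.Agent.Lib.LyG2.WordData
import Cfsg.Prelude.Def_Spor_Ly

/-!
In the presented Lyons group every auxiliary generator is a word in `a, b, c, d, z`.
-/

set_option autoImplicit false
set_option linter.all false
set_option maxRecDepth 20000

namespace CfsgLib.LyG2

open Cfsg.Spor.Ly (Gen)

/-- The relators of the presented group. -/
abbrev RS : Set (FreeGroup Gen) := Cfsg.Spor.coxRelators Cfsg.Spor.Ly.edges ∪ {r | r ∈ Cfsg.Spor.Ly.extra}

/-- Substitute the words for the generators. -/
def σ : FreeGroup Gen →* FreeGroup (Fin 5) := FreeGroup.lift fun x => FreeGroup.mk (wd x)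

/-- The five basic generators. -/
def emb : Fin 5 → Gen := ![.a, .b, .c, .d, .z]

/-- The inclusion of the free group on the five basic generators. -/
def ι : FreeGroup (Fin 5) →* FreeGroup Gen := FreeGroup.lift fun i => FreeGroup.of (emb i)

/-- A generator equals its word in the group. -/
def Same (x : Gen) : Prop :=
  PresentedGroup.mk RS (ι (σ (FreeGroup.of x))) = PresentedGroup.mk RS (FreeGroup.of x)

theorem relator_one (j : ℕ) : PresentedGroup.mk RS (Cfsg.Spor.Ly.extra.getD j 1) = 1 := by
  rcases Nat.lt_or_ge j Cfsg.Spor.Ly.extra.length with h | h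
  · rw [List.getD_eq_getElem _ _ h]
    exact PresentedGroup.one_of_mem (Or.inr (List.getElem_mem h))
  · rw [List.getD_eq_default _ _ h, map_one]

/-- The relator `j` defines `x` in terms of `prev`. -/
def stepChk (prev : List Gen) (x : Gen) (j : ℕ) : Bool :=
  match (Cfsg.Spor.Ly.extra.getD j 1).toWord with
  | (y, true) :: rest => decide (y = x) && rest.all (fun p => decide (p.1 ∈ prev)) &&
      decide (σ (Cfsg.Spor.Ly.extra.getD j 1) = 1)
  | _ => false

theorem same_of_step {prev : List Gen} (hp : ∀ y ∈ prev, Same y) {x : Gen} {j : ℕ}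
    (h : stepChk prev x j = true) : Same x := by
  unfold stepChk at h
  split at h
  next y rest e =>
    simp only [Bool.and_eq_true, decide_eq_true_eq, List.all_eq_true] at h
    obtain ⟨⟨rfl, hr⟩, hσ⟩ := h
    generalize hrd : Cfsg.Spor.Ly.extra.getD j 1 = r at e hσ
    have hr1 : PresentedGroup.mk RS r = 1 := hrd ▸ relator_one j
    have hsplit : r = FreeGroup.of y * FreeGroup.mk rest := by
      conv_lhs => rw [← FreeGroup.mk_toWord (x := r), e]
      rfl
    let f := (PresentedGroup.mk RS).comp (ι.comp σ)
    have hrest : f (FreeGroup.mk rest) = PresentedGroup.mk RS (FreeGroup.mk rest) := by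
      have e1 : f = FreeGroup.lift fun a => f (FreeGroup.of a) := FreeGroup.ext_hom _ _ (by simp)
      have e2 : PresentedGroup.mk RS = FreeGroup.lift fun a => PresentedGroup.mk RS (FreeGroup.of a) :=
        FreeGroup.ext_hom _ _ (by simp)
      rw [e1, e2, FreeGroup.lift_mk, FreeGroup.lift_mk]
      refine congrArg List.prod (List.map_congr_left fun p hp' => ?_)
      have hs : f (FreeGroup.of p.1) = PresentedGroup.mk RS (FreeGroup.of p.1) := hp _ (hr p hp')
      simp only [hs]
    have hf : f r = PresentedGroup.mk RS r := by
      show PresentedGroup.mk RS (ι (σ r)) = _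
      rw [hσ, map_one, map_one, hr1]
    rw [hsplit, map_mul, map_mul, hrest] at hf
    exact mul_right_cancel hf
  next => simp at h

/-- A list of definitions in order. -/
def stepsChk : List (Gen × ℕ) → List Gen → Bool
  | [], _ => true
  | p :: t, prev => stepChk prev p.1 p.2 && stepsChk t (p.1 :: prev)

theorem same_of_steps : ∀ (l : List (Gen × ℕ)) (prev : List Gen), (∀ y ∈ prev, Same y) →
    stepsChk l prev = true → ∀ x ∈ l.map Prod.fst, Same x := by
  intro l
  induction l with
  | nil => intro prev _ _ x hx; simp at hx
  | cons p t ih =>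
    intro prev hp h x hx
    simp only [stepsChk, Bool.and_eq_true] at h
    have hs := same_of_step hp h.1
    rcases List.mem_cons.mp hx with rfl | hx
    · exact hs
    · refine ih (p.1 :: prev) (fun y hy => ?_) h.2 x hx
      rcases List.mem_cons.mp hy with rfl | hy
      · exact hs
      · exact hp y hy

theorem steps_ok : stepsChk defs [.a, .b, .c, .d, .z] = true := by decide +kernel

theorem same_basic : ∀ y ∈ ([.a, .b, .c, .d, .z] : List Gen), Same y := by
  intro y hy
  simp only [List.mem_cons, List.not_mem_nil, or_false] at hy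
  rcases hy with rfl | rfl | rfl | rfl | rfl <;>
    exact congrArg (PresentedGroup.mk RS) (by decide +kernel)

theorem same (x : Gen) : Same x := by
  have hx : x ∈ defs.map Prod.fst ∨ x ∈ ([.a, .b, .c, .d, .z] : List Gen) := by cases x <;> decide +kernel
  rcases hx with hx | hx
  · exact same_of_steps defs _ same_basic steps_ok x hx
  · exact same_basic x hx

theorem mk_ι_σ : (PresentedGroup.mk RS).comp (ι.comp σ) = PresentedGroup.mk RS :=
  FreeGroup.ext_hom _ _ same

end CfsgLib.LyG2
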