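import Cfsg.Agent.Lib.LyG2.RepCheck
import Cfsg.Agent.Lib.LyG2.Subst

/-!
The representation of degree 111 of the presented Lyons group.
-/

set_option autoImplicit false
set_option linter.all false
set_option maxRecDepth 20000

namespace CfsgLib.LyG2

open CfsgLib.CosetEnum (strict_eq)

/-- Quick check of a reduced row. -/
def rowFast (n r : ℕ) : Bool := Nat.beq (r &&& lanes 2047 n) r && Nat.beq (fastRed n r) r

theorem red_of_rowFast {n r : ℕ} (h : rowFast n r = true) : red n r = r := by
  simp only [rowFast, Bool.and_eq_true] at h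
  have h1 := Nat.eq_of_beq_eq_true h.1
  have h2 := Nat.eq_of_beq_eq_true h.2
  have hs : ∀ j < n, slot j r < 2048 := fun j hj => by
    rw [← h1, slot_land, slot_lanes (by omega) n j hj]
    exact Nat.lt_succ_of_le Nat.and_le_right
  exact (fastRed_eq n r hs).symm.trans h2

/-- Quick check of a packed matrix. -/
def matFast (n : ℕ) (rows : List ℕ) : Bool := Nat.beq rows.length n && rows.all (rowFast n)

theorem matOK_of_fast {n : ℕ} {rows : List ℕ} (h : matFast n rows = true) : matOK n rows = true := by
  simp only [matFast, Bool.and_eq_true] at h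
  simp only [matOK, Bool.and_eq_true]
  refine ⟨h.1, List.all_eq_true.mpr fun r hr => ?_⟩
  rw [red_of_rowFast (List.all_eq_true.mp h.2 r hr)]
  exact Nat.beq_refl r

theorem repMats_fast : repMats.all (matFast 111) = true := by decide +kernel

theorem repMats_ok : repMats.all (matOK 111) = true :=
  List.all_eq_true.mpr fun m hm => matOK_of_fast (List.all_eq_true.mp repMats_fast m hm)

/-- The words giving the inverses. -/
def invWs : List (List ℕ) := (List.range 5).map fun j => [j, j + 5]

theorem inv0 : relsOK 111 repMats invWs 0 10 = true := by decide +kernel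

theorem inv1 : relsOK 111 repMats invWs 10 10 = true := by decide +kernel

theorem inv2 : relsOK 111 repMats invWs 20 10 = true := by decide +kernel

theorem inv3 : relsOK 111 repMats invWs 30 10 = true := by decide +kernel

theorem inv4 : relsOK 111 repMats invWs 40 10 = true := by decide +kernel

theorem inv5 : relsOK 111 repMats invWs 50 10 = true := by decide +kernel

theorem inv6 : relsOK 111 repMats invWs 60 10 = true := by decide +kernel

theorem inv7 : relsOK 111 repMats invWs 70 10 = true := by decide +kernel

theorem inv8 : relsOK 111 repMats invWs 80 10 = true := by decide +kernel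

theorem inv9 : relsOK 111 repMats invWs 90 10 = true := by decide +kernel

theorem inv10 : relsOK 111 repMats invWs 100 10 = true := by decide +kernel

theorem inv11 : relsOK 111 repMats invWs 110 1 = true := by decide +kernel

theorem repMats_inv : invOK 111 5 repMats = true := by
  refine List.all_eq_true.mpr fun i hi => ?_
  have hi' : i < 111 := List.mem_range.mp hi
  rw [fixOne, strict_eq]
  refine List.all_eq_true.mpr fun l hl => ?_
  rw [Nat.zero_add]
  have key : appW 111 repMats l (65536 ^ i) = 65536 ^ i := by
    rcases Nat.lt_or_ge i 10 with h | h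
    · exact relsOK_spec inv0 (by omega) (by omega) hl
    rcases Nat.lt_or_ge i 20 with h | h
    · exact relsOK_spec inv1 (by omega) (by omega) hl
    rcases Nat.lt_or_ge i 30 with h | h
    · exact relsOK_spec inv2 (by omega) (by omega) hl
    rcases Nat.lt_or_ge i 40 with h | h
    · exact relsOK_spec inv3 (by omega) (by omega) hl
    rcases Nat.lt_or_ge i 50 with h | h
    · exact relsOK_spec inv4 (by omega) (by omega) hl
    rcases Nat.lt_or_ge i 60 with h | h
    · exact relsOK_spec inv5 (by omega) (by omega) hl
    rcases Nat.lt_or_ge i 70 with h | h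
    · exact relsOK_spec inv6 (by omega) (by omega) hl
    rcases Nat.lt_or_ge i 80 with h | h
    · exact relsOK_spec inv7 (by omega) (by omega) hl
    rcases Nat.lt_or_ge i 90 with h | h
    · exact relsOK_spec inv8 (by omega) (by omega) hl
    rcases Nat.lt_or_ge i 100 with h | h
    · exact relsOK_spec inv9 (by omega) (by omega) hl
    rcases Nat.lt_or_ge i 110 with h | h
    · exact relsOK_spec inv10 (by omega) (by omega) hl
    exact relsOK_spec inv11 (by omega) (by omega) hl
  rw [key]; exact Nat.beq_refl _

theorem repData : GenData 111 5 repMats :=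
  GenData.of_check (by omega) repMats_ok (by decide +kernel) repMats_inv

theorem extra_codes : Cfsg.Spor.Ly.extra.all (fun r =>
    decide (codes (σ r).toWord = []) || decide (codes (σ r).toWord ∈ relCodes)) = true := by
  decide +kernel

theorem F_σ {r : FreeGroup Cfsg.Spor.Ly.Gen} (hr : r ∈ Cfsg.Spor.Ly.extra) : repData.F (σ r) = 1 := by
  have h := List.all_eq_true.mp extra_codes r hr
  simp only [Bool.or_eq_true, decide_eq_true_eq] at h
  refine repData.F_eq_one _ fun i hi => ?_
  rcases h with h | h
  · rw [h]; exact appW_nil _ _ _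
  · exact rels_all i hi h

/-- The representation. -/
def ρ : Cfsg.Spor.Ly →* (Matrix (Fin 111) (Fin 111) (ZMod 5))ˣ :=
  PresentedGroup.toGroup (f := fun x => repData.F (σ (FreeGroup.of x))) (by
    intro r hr
    have e : FreeGroup.lift (fun x => repData.F (σ (FreeGroup.of x))) = repData.F.comp σ :=
      FreeGroup.ext_hom _ _ fun x => by simp
    rw [e, MonoidHom.comp_apply]
    rcases hr with ⟨x, hx, -⟩ | hr
    · exact absurd hx (by simp [Cfsg.Spor.Ly.edges, Cfsg.Spor.coxNodes])
    · exact F_σ hr)

theorem a_entry : Mx 111 repMats 0 ⟨7, by omega⟩ ⟨7, by omega⟩ ≠ (1 : Matrix (Fin 111) (Fin 111) (ZMod 5)) ⟨7, by omega⟩ ⟨7, by omega⟩ := by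
  decide +kernel

theorem ρ_a_ne : ρ (PresentedGroup.of Cfsg.Spor.Ly.Gen.a) ≠ 1 := by
  intro h
  have e : ρ (PresentedGroup.of Cfsg.Spor.Ly.Gen.a) = repData.F (σ (FreeGroup.of Cfsg.Spor.Ly.Gen.a)) :=
    PresentedGroup.toGroup.of _
  have e2 : σ (FreeGroup.of Cfsg.Spor.Ly.Gen.a) = FreeGroup.of 0 := by decide +kernel
  rw [e, e2] at h
  have hm := congrArg (fun u : (Matrix (Fin 111) (Fin 111) (ZMod 5))ˣ =>
    (u : Matrix (Fin 111) (Fin 111) (ZMod 5)) (⟨7, by omega⟩ : Fin 111) (⟨7, by omega⟩ : Fin 111)) h
  simp only [GenData.F, FreeGroup.lift_apply_of, GenData.U, Units.val_one] at hm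
  exact a_entry hm

end CfsgLib.LyG2
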