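import Cfsg.Agent.Lib.LyG2.Bound
import Cfsg.Agent.Lib.LyG2.Model
import Cfsg.Agent.Lib.LyG2.Rep
import Cfsg.Agent.S1055

/-!
In the presented Lyons group, `a, b, c, d` generate a copy of `G₂(5)`.
-/

set_option autoImplicit false
set_option linter.all false
set_option maxRecDepth 20000

namespace CfsgLib.LyG2

open Cfsg.Lie

theorem card_chev : Nat.card ↥(chevG2.group (ZMod 5)) = 5859000000 := by
  rw [CfsgLib.Chev.card_group_G2 (ZMod.card 5)]
  norm_num

theorem ψ_bijective : Function.Bijective ψ.rangeRestrict := by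
  obtain ⟨hfin, hle⟩ := bound
  refine (Nat.bijective_iff_surjective_and_card _).mpr ⟨ψ.rangeRestrict_surjective, ?_⟩
  refine le_antisymm ?_ (Nat.card_le_card_of_surjective _ ψ.rangeRestrict_surjective)
  rw [range_eq, card_chev]
  exact hle

/-- The group on four letters is `G₂(5)`. -/
noncomputable def equivChev : P ≃* ↥(chevG2.group (ZMod 5)) :=
  (MulEquiv.ofBijective _ ψ_bijective).trans (MulEquiv.subgroupCongr range_eq)

theorem isSimple_P : IsSimpleGroup P := by
  have h := (Cfsg.Agent.S1055.result (F := ZMod 5) ⟨2, by decide, by decide⟩).1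
  haveI : Nontrivial P := equivChev.toEquiv.nontrivial
  exact IsSimpleGroup.isSimpleGroup_of_surjective equivChev.symm.toMonoidHom equivChev.symm.surjective

theorem up_drop : ∀ j ∈ keepIdx,
    up (drop (σ (Cfsg.Spor.Ly.extra.getD j 1))) = σ (Cfsg.Spor.Ly.extra.getD j 1) := by
  decide +kernel

/-- The map to the Lyons group. -/
def φ : P →* Cfsg.Spor.Ly :=
  PresentedGroup.toGroup (f := fun i => PresentedGroup.mk RS (FreeGroup.of (emb (Fin.castSucc i)))) (by
    intro r hr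
    obtain ⟨j, hj, rfl⟩ := List.mem_map.mp hr
    have e : FreeGroup.lift (fun i => PresentedGroup.mk RS (FreeGroup.of (emb (Fin.castSucc i)))) =
        (PresentedGroup.mk RS).comp (ι.comp up) :=
      FreeGroup.ext_hom _ _ fun i => by simp [ι, up]
    rw [e]
    show PresentedGroup.mk RS (ι (up (rel4 j))) = 1
    rw [rel4, up_drop j hj]
    exact (DFunLike.congr_fun mk_ι_σ _).trans (relator_one j))

theorem φ_injective : Function.Injective φ := by
  haveI := isSimple_P
  rcases (MonoidHom.normal_ker φ).eq_bot_or_eq_top with h | h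
  · exact (MonoidHom.ker_eq_bot_iff φ).mp h
  · exfalso
    apply ρ_a_ne
    have h1 : φ (PresentedGroup.of 0) = 1 := MonoidHom.mem_ker.mp (h ▸ Subgroup.mem_top _)
    rw [φ, PresentedGroup.toGroup.of] at h1
    exact (congrArg ρ h1).trans (map_one ρ)

theorem φ_range : φ.range =
    (Subgroup.closure ({Cfsg.Spor.Ly.a, Cfsg.Spor.Ly.b, Cfsg.Spor.Ly.c, Cfsg.Spor.Ly.d} :
      Set (FreeGroup Cfsg.Spor.Ly.Gen))).map (PresentedGroup.mk RS) := by
  rw [MonoidHom.range_eq_map, ← PresentedGroup.closure_range_of, MonoidHom.map_closure, MonoidHom.map_closure]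
  congr 1
  ext z
  constructor
  · rintro ⟨_, ⟨i, rfl⟩, rfl⟩
    rw [φ, PresentedGroup.toGroup.of]
    refine ⟨_, ?_, rfl⟩
    fin_cases i <;> simp [emb, Cfsg.Spor.Ly.a, Cfsg.Spor.Ly.b, Cfsg.Spor.Ly.c, Cfsg.Spor.Ly.d]
  · rintro ⟨w, hw, rfl⟩
    simp only [Set.mem_insert_iff, Set.mem_singleton_iff] at hw
    rcases hw with rfl | rfl | rfl | rfl
    · exact ⟨_, ⟨0, rfl⟩, PresentedGroup.toGroup.of _⟩
    · exact ⟨_, ⟨1, rfl⟩, PresentedGroup.toGroup.of _⟩
    · exact ⟨_, ⟨2, rfl⟩, PresentedGroup.toGroup.of _⟩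
    · exact ⟨_, ⟨3, rfl⟩, PresentedGroup.toGroup.of _⟩

theorem exists_iso : Nonempty (↥((Subgroup.closure ({Cfsg.Spor.Ly.a, Cfsg.Spor.Ly.b, Cfsg.Spor.Ly.c, Cfsg.Spor.Ly.d} :
      Set (FreeGroup Cfsg.Spor.Ly.Gen))).map (PresentedGroup.mk RS)) ≃* ↥(chevG2.group (ZMod 5))) :=
  ⟨(MulEquiv.subgroupCongr φ_range.symm).trans ((MonoidHom.ofInjective φ_injective).symm.trans equivChev)⟩

end CfsgLib.LyG2
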