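import Cfsg.Agent.Lib.LyG2.G2Data
import Cfsg.Agent.Lib.LyG2.Subst
import Cfsg.Agent.Lib.CosetEnum.Chain

/-!
The relators of the Lyons presentation that involve only `a, b, c, d`, as a presentation on four letters.
-/

set_option autoImplicit false
set_option linter.all false
set_option maxRecDepth 20000

namespace CfsgLib.LyG2

open CfsgLib.CosetEnum

/-- Forget `z`. -/
def drop : FreeGroup (Fin 5) →* FreeGroup (Fin 4) :=
  FreeGroup.lift ![FreeGroup.of 0, FreeGroup.of 1, FreeGroup.of 2, FreeGroup.of 3, 1]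

/-- The inclusion of four letters in five. -/
def up : FreeGroup (Fin 4) →* FreeGroup (Fin 5) := FreeGroup.lift fun i => FreeGroup.of (Fin.castSucc i)

/-- A relator in the four letters. -/
def rel4 (j : ℕ) : FreeGroup (Fin 4) := drop (σ (Cfsg.Spor.Ly.extra.getD j 1))

/-- The relators. -/
def rels4 : List (FreeGroup (Fin 4)) := keepIdx.map rel4

/-- The presented group on four letters. -/
abbrev P : Type := PresentedGroup {r : FreeGroup (Fin 4) | r ∈ rels4}

/-- Letters as free-group elements. -/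
def gF4 : ℕ → FreeGroup (Fin 4)
  | 0 => FreeGroup.of 0
  | 1 => FreeGroup.of 1
  | 2 => FreeGroup.of 2
  | 3 => FreeGroup.of 3
  | 4 => (FreeGroup.of 0)⁻¹
  | 5 => (FreeGroup.of 1)⁻¹
  | 6 => (FreeGroup.of 2)⁻¹
  | 7 => (FreeGroup.of 3)⁻¹
  | _ => 1

/-- The letters in the presented group. -/
def gP (x : ℕ) : P := PresentedGroup.mk _ (gF4 x)

theorem gP15 : gP 15 = 1 := map_one _

theorem gF4_inv : ∀ x < 16, gF4 (linv 18364758543347775060 x) = (gF4 x)⁻¹ := by decide +kernel

theorem gPinv : ∀ x < 16, gP (linv 18364758543347775060 x) = (gP x)⁻¹ := fun x hx => by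
  rw [gP, gP, gF4_inv x hx, map_inv]

theorem lsG_chk : ∀ l ∈ lsG, (∀ x ∈ l, x < 16) ∧ ((l.map gF4).prod = 1 ∨ (l.map gF4).prod ∈ rels4) := by
  decide +kernel

theorem lsG_words : ∀ l ∈ lsG, (∀ x ∈ l, x < 16) ∧ (l.map gP).prod = 1 := by
  intro l hl
  obtain ⟨h1, h2⟩ := lsG_chk l hl
  refine ⟨h1, ?_⟩
  have e : (l.map gP).prod = PresentedGroup.mk {r : FreeGroup (Fin 4) | r ∈ rels4} (l.map gF4).prod := by
    rw [map_list_prod, List.map_map]
    rfl
  rw [e]
  rcases h2 with h | h
  · rw [h, map_one]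
  · exact PresentedGroup.one_of_mem h

theorem level_top : Level gP [0, 1, 2, 3, 4, 5, 6, 7] = ⊤ := by
  rw [eq_top_iff, ← PresentedGroup.closure_range_of, Subgroup.closure_le]
  rintro _ ⟨i, rfl⟩
  fin_cases i
  exacts [mem_level gP (x := 0) (by simp), mem_level gP (x := 1) (by simp), mem_level gP (x := 2) (by simp),
    mem_level gP (x := 3) (by simp)]

end CfsgLib.LyG2
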