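import Cfsg.Agent.Lib.LyG2.RepData

/-! The relators on some of the basis vectors. -/

set_option autoImplicit false
set_option linter.all false
set_option maxRecDepth 20000

namespace CfsgLib.LyG2

theorem rels10 : relsOK 111 repMats relCodes 10 1 = true := by decide +kernel

theorem rels11 : relsOK 111 repMats relCodes 11 1 = true := by decide +kernel

theorem rels12 : relsOK 111 repMats relCodes 12 1 = true := by decide +kernel

theorem rels13 : relsOK 111 repMats relCodes 13 1 = true := by decide +kernel

theorem rels14 : relsOK 111 repMats relCodes 14 1 = true := by decide +kernel

theorem rels15 : relsOK 111 repMats relCodes 15 1 = true := by decide +kernel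

theorem rels16 : relsOK 111 repMats relCodes 16 1 = true := by decide +kernel

theorem rels17 : relsOK 111 repMats relCodes 17 1 = true := by decide +kernel

theorem rels18 : relsOK 111 repMats relCodes 18 1 = true := by decide +kernel

theorem rels19 : relsOK 111 repMats relCodes 19 1 = true := by decide +kernel

end CfsgLib.LyG2
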