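import Cfsg.Agent.Lib.LyG2.RepData

/-! The relators on some of the basis vectors. -/

set_option autoImplicit false
set_option linter.all false
set_option maxRecDepth 20000

namespace CfsgLib.LyG2

theorem rels100 : relsOK 111 repMats relCodes 100 1 = true := by decide +kernel

theorem rels101 : relsOK 111 repMats relCodes 101 1 = true := by decide +kernel

theorem rels102 : relsOK 111 repMats relCodes 102 1 = true := by decide +kernel

theorem rels103 : relsOK 111 repMats relCodes 103 1 = true := by decide +kernel

theorem rels104 : relsOK 111 repMats relCodes 104 1 = true := by decide +kernel

theorem rels105 : relsOK 111 repMats relCodes 105 1 = true := by decide +kernel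

theorem rels106 : relsOK 111 repMats relCodes 106 1 = true := by decide +kernel

theorem rels107 : relsOK 111 repMats relCodes 107 1 = true := by decide +kernel

theorem rels108 : relsOK 111 repMats relCodes 108 1 = true := by decide +kernel

theorem rels109 : relsOK 111 repMats relCodes 109 1 = true := by decide +kernel

end CfsgLib.LyG2
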