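import Cfsg.Agent.Lib.LyG2.RepData

/-! The relators on some of the basis vectors. -/

set_option autoImplicit false
set_option linter.all false
set_option maxRecDepth 20000

namespace CfsgLib.LyG2

theorem rels110 : relsOK 111 repMats relCodes 110 1 = true := by decide +kernel

end CfsgLib.LyG2
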