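import Cfsg.Agent.Lib.LyG2.RepData

/-! The relators on some of the basis vectors. -/

set_option autoImplicit false
set_option linter.all false
set_option maxRecDepth 20000

namespace CfsgLib.LyG2

theorem rels20 : relsOK 111 repMats relCodes 20 1 = true := by decide +kernel

theorem rels21 : relsOK 111 repMats relCodes 21 1 = true := by decide +kernel

theorem rels22 : relsOK 111 repMats relCodes 22 1 = true := by decide +kernel

theorem rels23 : relsOK 111 repMats relCodes 23 1 = true := by decide +kernel

theorem rels24 : relsOK 111 repMats relCodes 24 1 = true := by decide +kernel

theorem rels25 : relsOK 111 repMats relCodes 25 1 = true := by decide +kernel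

theorem rels26 : relsOK 111 repMats relCodes 26 1 = true := by decide +kernel

theorem rels27 : relsOK 111 repMats relCodes 27 1 = true := by decide +kernel

theorem rels28 : relsOK 111 repMats relCodes 28 1 = true := by decide +kernel

theorem rels29 : relsOK 111 repMats relCodes 29 1 = true := by decide +kernel

end CfsgLib.LyG2
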