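import Cfsg.Agent.Lib.LyG2.RepData

/-! The relators on some of the basis vectors. -/

set_option autoImplicit false
set_option linter.all false
set_option maxRecDepth 20000

namespace CfsgLib.LyG2

theorem rels30 : relsOK 111 repMats relCodes 30 1 = true := by decide +kernel

theorem rels31 : relsOK 111 repMats relCodes 31 1 = true := by decide +kernel

theorem rels32 : relsOK 111 repMats relCodes 32 1 = true := by decide +kernel

theorem rels33 : relsOK 111 repMats relCodes 33 1 = true := by decide +kernel

theorem rels34 : relsOK 111 repMats relCodes 34 1 = true := by decide +kernel

theorem rels35 : relsOK 111 repMats relCodes 35 1 = true := by decide +kernel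

theorem rels36 : relsOK 111 repMats relCodes 36 1 = true := by decide +kernel

theorem rels37 : relsOK 111 repMats relCodes 37 1 = true := by decide +kernel

theorem rels38 : relsOK 111 repMats relCodes 38 1 = true := by decide +kernel

theorem rels39 : relsOK 111 repMats relCodes 39 1 = true := by decide +kernel

end CfsgLib.LyG2
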