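import Cfsg.Agent.Lib.LyG2.RepData

/-! The relators on some of the basis vectors. -/

set_option autoImplicit false
set_option linter.all false
set_option maxRecDepth 20000

namespace CfsgLib.LyG2

theorem rels40 : relsOK 111 repMats relCodes 40 1 = true := by decide +kernel

theorem rels41 : relsOK 111 repMats relCodes 41 1 = true := by decide +kernel

theorem rels42 : relsOK 111 repMats relCodes 42 1 = true := by decide +kernel

theorem rels43 : relsOK 111 repMats relCodes 43 1 = true := by decide +kernel

theorem rels44 : relsOK 111 repMats relCodes 44 1 = true := by decide +kernel

theorem rels45 : relsOK 111 repMats relCodes 45 1 = true := by decide +kernel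

theorem rels46 : relsOK 111 repMats relCodes 46 1 = true := by decide +kernel

theorem rels47 : relsOK 111 repMats relCodes 47 1 = true := by decide +kernel

theorem rels48 : relsOK 111 repMats relCodes 48 1 = true := by decide +kernel

theorem rels49 : relsOK 111 repMats relCodes 49 1 = true := by decide +kernel

end CfsgLib.LyG2
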