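import Cfsg.Agent.Lib.LyG2.RepData

/-! The relators on some of the basis vectors. -/

set_option autoImplicit false
set_option linter.all false
set_option maxRecDepth 20000

namespace CfsgLib.LyG2

theorem rels50 : relsOK 111 repMats relCodes 50 1 = true := by decide +kernel

theorem rels51 : relsOK 111 repMats relCodes 51 1 = true := by decide +kernel

theorem rels52 : relsOK 111 repMats relCodes 52 1 = true := by decide +kernel

theorem rels53 : relsOK 111 repMats relCodes 53 1 = true := by decide +kernel

theorem rels54 : relsOK 111 repMats relCodes 54 1 = true := by decide +kernel

theorem rels55 : relsOK 111 repMats relCodes 55 1 = true := by decide +kernel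

theorem rels56 : relsOK 111 repMats relCodes 56 1 = true := by decide +kernel

theorem rels57 : relsOK 111 repMats relCodes 57 1 = true := by decide +kernel

theorem rels58 : relsOK 111 repMats relCodes 58 1 = true := by decide +kernel

theorem rels59 : relsOK 111 repMats relCodes 59 1 = true := by decide +kernel

end CfsgLib.LyG2
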