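import Cfsg.Agent.Lib.LyG2.RepData

/-! The relators on some of the basis vectors. -/

set_option autoImplicit false
set_option linter.all false
set_option maxRecDepth 20000

namespace CfsgLib.LyG2

theorem rels60 : relsOK 111 repMats relCodes 60 1 = true := by decide +kernel

theorem rels61 : relsOK 111 repMats relCodes 61 1 = true := by decide +kernel

theorem rels62 : relsOK 111 repMats relCodes 62 1 = true := by decide +kernel

theorem rels63 : relsOK 111 repMats relCodes 63 1 = true := by decide +kernel

theorem rels64 : relsOK 111 repMats relCodes 64 1 = true := by decide +kernel

theorem rels65 : relsOK 111 repMats relCodes 65 1 = true := by decide +kernel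

theorem rels66 : relsOK 111 repMats relCodes 66 1 = true := by decide +kernel

theorem rels67 : relsOK 111 repMats relCodes 67 1 = true := by decide +kernel

theorem rels68 : relsOK 111 repMats relCodes 68 1 = true := by decide +kernel

theorem rels69 : relsOK 111 repMats relCodes 69 1 = true := by decide +kernel

end CfsgLib.LyG2
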