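import Cfsg.Agent.Lib.LyG2.RepData

/-! The relators on some of the basis vectors. -/

set_option autoImplicit false
set_option linter.all false
set_option maxRecDepth 20000

namespace CfsgLib.LyG2

theorem rels70 : relsOK 111 repMats relCodes 70 1 = true := by decide +kernel

theorem rels71 : relsOK 111 repMats relCodes 71 1 = true := by decide +kernel

theorem rels72 : relsOK 111 repMats relCodes 72 1 = true := by decide +kernel

theorem rels73 : relsOK 111 repMats relCodes 73 1 = true := by decide +kernel

theorem rels74 : relsOK 111 repMats relCodes 74 1 = true := by decide +kernel

theorem rels75 : relsOK 111 repMats relCodes 75 1 = true := by decide +kernel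

theorem rels76 : relsOK 111 repMats relCodes 76 1 = true := by decide +kernel

theorem rels77 : relsOK 111 repMats relCodes 77 1 = true := by decide +kernel

theorem rels78 : relsOK 111 repMats relCodes 78 1 = true := by decide +kernel

theorem rels79 : relsOK 111 repMats relCodes 79 1 = true := by decide +kernel

end CfsgLib.LyG2
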