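import Cfsg.Agent.Lib.LyG2.RepData

/-! The relators on some of the basis vectors. -/

set_option autoImplicit false
set_option linter.all false
set_option maxRecDepth 20000

namespace CfsgLib.LyG2

theorem rels80 : relsOK 111 repMats relCodes 80 1 = true := by decide +kernel

theorem rels81 : relsOK 111 repMats relCodes 81 1 = true := by decide +kernel

theorem rels82 : relsOK 111 repMats relCodes 82 1 = true := by decide +kernel

theorem rels83 : relsOK 111 repMats relCodes 83 1 = true := by decide +kernel

theorem rels84 : relsOK 111 repMats relCodes 84 1 = true := by decide +kernel

theorem rels85 : relsOK 111 repMats relCodes 85 1 = true := by decide +kernel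

theorem rels86 : relsOK 111 repMats relCodes 86 1 = true := by decide +kernel

theorem rels87 : relsOK 111 repMats relCodes 87 1 = true := by decide +kernel

theorem rels88 : relsOK 111 repMats relCodes 88 1 = true := by decide +kernel

theorem rels89 : relsOK 111 repMats relCodes 89 1 = true := by decide +kernel

end CfsgLib.LyG2
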