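import Cfsg.Agent.Lib.LyG2.RepData

/-! The relators on some of the basis vectors. -/

set_option autoImplicit false
set_option linter.all false
set_option maxRecDepth 20000

namespace CfsgLib.LyG2

theorem rels90 : relsOK 111 repMats relCodes 90 1 = true := by decide +kernel

theorem rels91 : relsOK 111 repMats relCodes 91 1 = true := by decide +kernel

theorem rels92 : relsOK 111 repMats relCodes 92 1 = true := by decide +kernel

theorem rels93 : relsOK 111 repMats relCodes 93 1 = true := by decide +kernel

theorem rels94 : relsOK 111 repMats relCodes 94 1 = true := by decide +kernel

theorem rels95 : relsOK 111 repMats relCodes 95 1 = true := by decide +kernel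

theorem rels96 : relsOK 111 repMats relCodes 96 1 = true := by decide +kernel

theorem rels97 : relsOK 111 repMats relCodes 97 1 = true := by decide +kernel

theorem rels98 : relsOK 111 repMats relCodes 98 1 = true := by decide +kernel

theorem rels99 : relsOK 111 repMats relCodes 99 1 = true := by decide +kernel

end CfsgLib.LyG2
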