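import Cfsg.Agent.Lib.LyG2.RepChk0
import Cfsg.Agent.Lib.LyG2.RepChk1
import Cfsg.Agent.Lib.LyG2.RepChk2
import Cfsg.Agent.Lib.LyG2.RepChk3
import Cfsg.Agent.Lib.LyG2.RepChk4
import Cfsg.Agent.Lib.LyG2.RepChk5
import Cfsg.Agent.Lib.LyG2.RepChk6
import Cfsg.Agent.Lib.LyG2.RepChk7
import Cfsg.Agent.Lib.LyG2.RepChk8
import Cfsg.Agent.Lib.LyG2.RepChk9
import Cfsg.Agent.Lib.LyG2.RepChk10
import Cfsg.Agent.Lib.LyG2.RepChk11

/-! The relators on all basis vectors. -/

set_option autoImplicit false
set_option linter.all false
set_option maxRecDepth 20000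

namespace CfsgLib.LyG2

theorem rels_all (i : ℕ) (hi : i < 111) {l : List ℕ} (hl : l ∈ relCodes) : appW 111 repMats l (65536 ^ i) = 65536 ^ i := by
  interval_cases i
  · exact relsOK_spec rels0 (le_refl _) (by omega) hl
  · exact relsOK_spec rels1 (le_refl _) (by omega) hl
  · exact relsOK_spec rels2 (le_refl _) (by omega) hl
  · exact relsOK_spec rels3 (le_refl _) (by omega) hl
  · exact relsOK_spec rels4v (le_refl _) (by omega) hl
  · exact relsOK_spec rels5 (le_refl _) (by omega) hl
  · exact relsOK_spec rels6 (le_refl _) (by omega) hl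
  · exact relsOK_spec rels7 (le_refl _) (by omega) hl
  · exact relsOK_spec rels8 (le_refl _) (by omega) hl
  · exact relsOK_spec rels9 (le_refl _) (by omega) hl
  · exact relsOK_spec rels10 (le_refl _) (by omega) hl
  · exact relsOK_spec rels11 (le_refl _) (by omega) hl
  · exact relsOK_spec rels12 (le_refl _) (by omega) hl
  · exact relsOK_spec rels13 (le_refl _) (by omega) hl
  · exact relsOK_spec rels14 (le_refl _) (by omega) hl
  · exact relsOK_spec rels15 (le_refl _) (by omega) hl
  · exact relsOK_spec rels16 (le_refl _) (by omega) hl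
  · exact relsOK_spec rels17 (le_refl _) (by omega) hl
  · exact relsOK_spec rels18 (le_refl _) (by omega) hl
  · exact relsOK_spec rels19 (le_refl _) (by omega) hl
  · exact relsOK_spec rels20 (le_refl _) (by omega) hl
  · exact relsOK_spec rels21 (le_refl _) (by omega) hl
  · exact relsOK_spec rels22 (le_refl _) (by omega) hl
  · exact relsOK_spec rels23 (le_refl _) (by omega) hl
  · exact relsOK_spec rels24 (le_refl _) (by omega) hl
  · exact relsOK_spec rels25 (le_refl _) (by omega) hl
  · exact relsOK_spec rels26 (le_refl _) (by omega) hl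
  · exact relsOK_spec rels27 (le_refl _) (by omega) hl
  · exact relsOK_spec rels28 (le_refl _) (by omega) hl
  · exact relsOK_spec rels29 (le_refl _) (by omega) hl
  · exact relsOK_spec rels30 (le_refl _) (by omega) hl
  · exact relsOK_spec rels31 (le_refl _) (by omega) hl
  · exact relsOK_spec rels32 (le_refl _) (by omega) hl
  · exact relsOK_spec rels33 (le_refl _) (by omega) hl
  · exact relsOK_spec rels34 (le_refl _) (by omega) hl
  · exact relsOK_spec rels35 (le_refl _) (by omega) hl
  · exact relsOK_spec rels36 (le_refl _) (by omega) hl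
  · exact relsOK_spec rels37 (le_refl _) (by omega) hl
  · exact relsOK_spec rels38 (le_refl _) (by omega) hl
  · exact relsOK_spec rels39 (le_refl _) (by omega) hl
  · exact relsOK_spec rels40 (le_refl _) (by omega) hl
  · exact relsOK_spec rels41 (le_refl _) (by omega) hl
  · exact relsOK_spec rels42 (le_refl _) (by omega) hl
  · exact relsOK_spec rels43 (le_refl _) (by omega) hl
  · exact relsOK_spec rels44 (le_refl _) (by omega) hl
  · exact relsOK_spec rels45 (le_refl _) (by omega) hl
  · exact relsOK_spec rels46 (le_refl _) (by omega) hl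
  · exact relsOK_spec rels47 (le_refl _) (by omega) hl
  · exact relsOK_spec rels48 (le_refl _) (by omega) hl
  · exact relsOK_spec rels49 (le_refl _) (by omega) hl
  · exact relsOK_spec rels50 (le_refl _) (by omega) hl
  · exact relsOK_spec rels51 (le_refl _) (by omega) hl
  · exact relsOK_spec rels52 (le_refl _) (by omega) hl
  · exact relsOK_spec rels53 (le_refl _) (by omega) hl
  · exact relsOK_spec rels54 (le_refl _) (by omega) hl
  · exact relsOK_spec rels55 (le_refl _) (by omega) hl
  · exact relsOK_spec rels56 (le_refl _) (by omega) hl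
  · exact relsOK_spec rels57 (le_refl _) (by omega) hl
  · exact relsOK_spec rels58 (le_refl _) (by omega) hl
  · exact relsOK_spec rels59 (le_refl _) (by omega) hl
  · exact relsOK_spec rels60 (le_refl _) (by omega) hl
  · exact relsOK_spec rels61 (le_refl _) (by omega) hl
  · exact relsOK_spec rels62 (le_refl _) (by omega) hl
  · exact relsOK_spec rels63 (le_refl _) (by omega) hl
  · exact relsOK_spec rels64 (le_refl _) (by omega) hl
  · exact relsOK_spec rels65 (le_refl _) (by omega) hl
  · exact relsOK_spec rels66 (le_refl _) (by omega) hl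
  · exact relsOK_spec rels67 (le_refl _) (by omega) hl
  · exact relsOK_spec rels68 (le_refl _) (by omega) hl
  · exact relsOK_spec rels69 (le_refl _) (by omega) hl
  · exact relsOK_spec rels70 (le_refl _) (by omega) hl
  · exact relsOK_spec rels71 (le_refl _) (by omega) hl
  · exact relsOK_spec rels72 (le_refl _) (by omega) hl
  · exact relsOK_spec rels73 (le_refl _) (by omega) hl
  · exact relsOK_spec rels74 (le_refl _) (by omega) hl
  · exact relsOK_spec rels75 (le_refl _) (by omega) hl
  · exact relsOK_spec rels76 (le_refl _) (by omega) hl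
  · exact relsOK_spec rels77 (le_refl _) (by omega) hl
  · exact relsOK_spec rels78 (le_refl _) (by omega) hl
  · exact relsOK_spec rels79 (le_refl _) (by omega) hl
  · exact relsOK_spec rels80 (le_refl _) (by omega) hl
  · exact relsOK_spec rels81 (le_refl _) (by omega) hl
  · exact relsOK_spec rels82 (le_refl _) (by omega) hl
  · exact relsOK_spec rels83 (le_refl _) (by omega) hl
  · exact relsOK_spec rels84 (le_refl _) (by omega) hl
  · exact relsOK_spec rels85 (le_refl _) (by omega) hl
  · exact relsOK_spec rels86 (le_refl _) (by omega) hl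
  · exact relsOK_spec rels87 (le_refl _) (by omega) hl
  · exact relsOK_spec rels88 (le_refl _) (by omega) hl
  · exact relsOK_spec rels89 (le_refl _) (by omega) hl
  · exact relsOK_spec rels90 (le_refl _) (by omega) hl
  · exact relsOK_spec rels91 (le_refl _) (by omega) hl
  · exact relsOK_spec rels92 (le_refl _) (by omega) hl
  · exact relsOK_spec rels93 (le_refl _) (by omega) hl
  · exact relsOK_spec rels94 (le_refl _) (by omega) hl
  · exact relsOK_spec rels95 (le_refl _) (by omega) hl
  · exact relsOK_spec rels96 (le_refl _) (by omega) hl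
  · exact relsOK_spec rels97 (le_refl _) (by omega) hl
  · exact relsOK_spec rels98 (le_refl _) (by omega) hl
  · exact relsOK_spec rels99 (le_refl _) (by omega) hl
  · exact relsOK_spec rels100 (le_refl _) (by omega) hl
  · exact relsOK_spec rels101 (le_refl _) (by omega) hl
  · exact relsOK_spec rels102 (le_refl _) (by omega) hl
  · exact relsOK_spec rels103 (le_refl _) (by omega) hl
  · exact relsOK_spec rels104 (le_refl _) (by omega) hl
  · exact relsOK_spec rels105 (le_refl _) (by omega) hl
  · exact relsOK_spec rels106 (le_refl _) (by omega) hl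
  · exact relsOK_spec rels107 (le_refl _) (by omega) hl
  · exact relsOK_spec rels108 (le_refl _) (by omega) hl
  · exact relsOK_spec rels109 (le_refl _) (by omega) hl
  · exact relsOK_spec rels110 (le_refl _) (by omega) hl

end CfsgLib.LyG2
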