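import Cfsg.Agent.Lib.LyG2.RepData

/-! The relators on some of the basis vectors. -/

set_option autoImplicit false
set_option linter.all false
set_option maxRecDepth 20000

namespace CfsgLib.LyG2

theorem rels0 : relsOK 111 repMats relCodes 0 1 = true := by decide +kernel

theorem rels1 : relsOK 111 repMats relCodes 1 1 = true := by decide +kernel

theorem rels2 : relsOK 111 repMats relCodes 2 1 = true := by decide +kernel

theorem rels3 : relsOK 111 repMats relCodes 3 1 = true := by decide +kernel

theorem rels4v : relsOK 111 repMats relCodes 4 1 = true := by decide +kernel

theorem rels5 : relsOK 111 repMats relCodes 5 1 = true := by decide +kernel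

theorem rels6 : relsOK 111 repMats relCodes 6 1 = true := by decide +kernel

theorem rels7 : relsOK 111 repMats relCodes 7 1 = true := by decide +kernel

theorem rels8 : relsOK 111 repMats relCodes 8 1 = true := by decide +kernel

theorem rels9 : relsOK 111 repMats relCodes 9 1 = true := by decide +kernel

end CfsgLib.LyG2
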