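import Cfsg.Prelude.Def_Spor_Ly

/-! Words for the auxiliary generators of the presented Lyons group. -/

set_option autoImplicit false
set_option linter.all false
set_option maxRecDepth 20000

namespace CfsgLib.LyG2

open Cfsg.Spor.Ly (Gen)

/-- The word of a generator in `a, b, c, d, z`. -/
def wd : Gen → List (Fin 5 × Bool)
  | .a => [(0, true)]
  | .b => [(1, true)]
  | .c => [(2, true)]
  | .d => [(3, true)]
  | .z => [(4, true)]
  | .e => [(1, false), (1, false), (0, false), (2, false), (0, true), (2, true), (0, false), (2, true), (0, true), (3, true), (2, true), (1, true), (0, true), (1, false), (3, true), (2, true), (3, true)]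
  | .a1 => [(0, true)]
  | .a2 => [(1, true), (0, true), (1, false)]
  | .a3 => [(1, true), (1, true), (0, true), (1, false), (1, false)]
  | .a4 => [(1, false), (1, false), (0, true), (1, true), (1, true)]
  | .c1 => [(2, true)]
  | .c2 => [(0, false), (2, true), (0, true)]
  | .c3 => [(1, false), (2, true), (1, true)]
  | .c4 => [(1, true), (2, true), (1, false)]
  | .c5 => [(2, false), (0, false), (2, false), (0, true), (2, true), (0, false), (2, true), (0, true)]
  | .u => [(0, true), (0, true)]
  | .x23 => [(3, true)]
  | .x24 => [(3, false)]
  | .x25 => [(1, true), (1, true), (0, false), (1, false), (0, false), (1, true), (1, true), (2, false), (0, true), (2, true), (0, false), (2, false), (3, true), (2, false), (1, true), (1, true), (0, false), (2, true), (1, true)]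
  | .x29 => [(0, true), (1, true), (0, false), (1, true), (1, true), (0, false), (1, true), (1, true), (2, false), (0, true), (2, true), (1, true), (2, true), (1, false), (3, true), (2, true), (1, false), (1, false), (3, true), (2, true), (1, true), (2, true)]
  | .x47 => [(2, false), (3, false), (0, false), (2, false), (0, false), (1, true), (2, false), (3, false)]
  | .x96 => [(1, true), (3, true)]
  | .x129 => [(3, false), (1, false)]
  | .x162 => [(0, false), (1, false), (0, false), (1, true), (2, false), (1, false), (0, true), (2, false), (1, true), (0, true)]
  | .x163 => [(1, false), (1, false), (0, true), (2, true), (0, false), (1, true), (2, true), (1, true)]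
  | .x164 => [(0, false), (1, false), (0, false), (2, true), (0, true), (1, true), (0, true)]
  | .x165 => [(1, false), (0, false), (1, true), (2, true), (1, false), (0, true), (1, true)]
  | .x166 => [(1, true), (1, true), (0, false), (1, false), (2, true), (1, true), (0, true), (2, true), (1, false), (1, false), (2, false)]
  | .x167 => [(0, false), (0, false), (0, false)]
  | .x168 => [(1, true), (0, false), (1, false), (0, false), (0, false)]
  | .x169 => [(0, true), (1, true), (1, true), (0, true), (1, false), (1, false), (0, false)]
  | .x364 => [(0, false), (3, true), (1, false), (2, false), (0, false), (1, true), (2, false), (3, false), (1, true), (2, false), (1, false), (0, false), (2, false), (0, true), (1, false), (0, true), (1, true), (0, true), (1, false)]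
  | .x365 => [(0, true), (1, false), (1, false), (0, false), (2, true), (1, true), (2, false), (1, true), (0, false), (2, false), (2, false), (3, true), (2, true), (0, true), (2, true), (0, false), (2, true), (1, false), (3, false)]
  | .x366 => [(1, true), (0, true), (1, false), (0, false), (1, false), (1, false), (0, false), (1, false), (2, true), (1, true), (1, true), (2, true), (1, true), (3, true), (2, true), (1, false), (1, false), (3, true), (2, true), (1, true), (2, true)]
  | .x367 => [(2, false), (1, false), (2, false), (3, false), (1, true), (1, true), (2, false), (3, false), (1, false), (2, false), (1, false), (1, false), (2, false), (1, true), (0, true), (1, true), (1, true), (0, true), (1, true), (0, false), (1, false)]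
  | .x368 => [(0, false), (2, false), (3, false), (0, true), (2, false), (1, false), (0, true), (2, false), (3, false), (0, false), (2, false), (0, true), (2, true), (1, false), (1, false), (2, false), (1, false), (0, false), (1, false), (1, false)]
  | .x369 => [(0, false), (2, false), (3, false), (1, true), (0, false), (1, false), (2, false), (3, false), (1, true), (0, false), (1, false), (2, false), (1, false), (0, true), (1, false), (1, false), (0, true), (1, false)]
  | .x370 => [(3, false), (0, true), (2, true), (1, true), (2, true), (0, false), (2, false), (3, false), (0, true), (1, false), (0, false), (2, true), (0, false), (1, false), (1, false), (0, false), (1, true), (0, false)]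
  | .x371 => [(2, false), (0, false), (2, true), (1, true), (2, false), (3, false), (2, true), (0, false), (2, true), (0, true), (2, true), (1, false), (0, false), (1, false), (0, false), (1, true)]

/-- The defining relators, in order. -/
def defs : List (Gen × ℕ) :=
  [(.c1, 5), (.c2, 6), (.c3, 7), (.c4, 8), (.c5, 9), (.e, 28), (.a1, 44), (.a2, 45), (.a3, 46), (.a4, 47), (.u, 48), (.x23, 49), (.x24, 50), (.x25, 51), (.x29, 52), (.x47, 53), (.x96, 54), (.x129, 55), (.x162, 56), (.x163, 57), (.x164, 58), (.x165, 59), (.x166, 60), (.x167, 61), (.x168, 62), (.x169, 63), (.x364, 64), (.x365, 65), (.x366, 66), (.x367, 67), (.x368, 68), (.x369, 69), (.x370, 70), (.x371, 71)]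

end CfsgLib.LyG2
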